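import Cfsg.Agent.Omega.IId.ThmCD.Blk
import Cfsg.Agent.Omega.IId.Cv.Half

/-!
# THEOREM C for natural factors, `q = 2`, arbitrary `D` (bb OMEGA 19448): the instance from `NatD`

`NV.exists_blkD` : the data for `M : NatD F S P V D k`, `|F| = 2`.
`NV.thmCD` : `O₂(C_G(z)) ≤ S` for `z` in the line of the factor `i`.
-/

set_option autoImplicit false
set_option linter.unusedSectionVars false

namespace Cfsg.Agent.Omega.IId.NV

open Subgroup Cfsg Cfsg.Agent.ZN Cfsg.Agent.ZN.ChoiceBase
open Cfsg.Agent.MinSimple.VModule hiding le_normalizer_zl normalizer_le_normalizer_zc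
open Cfsg.Agent.Omega.MinPar Cfsg.Agent.Omega.FFThm
open Cfsg.Agent.Lib.SL2Mat
open Cfsg.Agent.Omega.NatPair (ap ap_one ap_mul)
open Cfsg.Agent.Omega.IITwo.Count (Three)
open Cfsg.Agent.Omega.ThmC.TwoOf (two_cases centralizer_o2_le)

universe u

variable {G : Type u} [Group G] {F : Type} [Field F] {k : ℕ}

section

variable {S P V : Subgroup G} (M : NatV F S P V k)

theorem part_le_iSup (s : Finset (Fin k)) : part M (s : Set (Fin k)) ≤ ⨆ l, fac M l := by
  classical
  induction s using Finset.induction_on with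
  | empty => rw [Finset.coe_empty, part_empty]; exact bot_le
  | insert i s _ ih =>
    intro v hv
    obtain ⟨a, ha, h1, h2⟩ := exists_component M hv.1 i
    have h3 : a⁻¹ * v ∈ part M (s : Set (Fin k)) := by
      refine ⟨h2.1, fun j hj => ?_⟩
      by_cases hji : j = i
      · exact h2.2 j (fun h => h hji)
      · rw [M.mul _ (inv_mem ha.1) _ hv.1, e_inv M ha.1, Pi.add_apply, Pi.neg_apply,
          ha.2 j hji, hv.2 j (fun h => by
            rw [Finset.coe_insert, Set.mem_insert_iff] at h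
            rcases h with h | h
            · exact hji h
            · exact hj h), neg_zero, add_zero]
    have h4 : v = a * (a⁻¹ * v) := by group
    rw [h4]
    exact mul_mem ((le_iSup (fac M) i) ha) (ih h3)

theorem iSup_fac : ⨆ l, fac M l = V := by
  refine le_antisymm (iSup_le fun l => fac_le M l) ?_
  have h := part_le_iSup M Finset.univ
  rwa [Finset.coe_univ, part_univ] at h

/-- the matrix of order 3 -/
def mthree (F : Type) [Field F] [CharP F 2] : Matrix.SpecialLinearGroup (Fin 2) F :=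
  Lib.SL2Mat.mk 0 1 1 1 (by rw [zero_mul, one_mul, zero_sub]; exact CharTwo.neg_eq 1)

theorem ap_three [CharP F 2] (x : Fin 2 → F) :
    x + ap (mthree F) x + ap (mthree F) (ap (mthree F) x) = 0 := by
  have h4 : (2 : F) = 0 := CharTwo.two_eq_zero
  apply NatPair.ext2
  · simp only [Pi.add_apply, Pi.zero_apply, NatPair.ap_zero', NatPair.ap_one', mthree, mk_00, mk_01, mk_10, mk_11]
    linear_combination (x 0 + x 1) * h4
  · simp only [Pi.add_apply, Pi.zero_apply, NatPair.ap_zero', NatPair.ap_one', mthree, mk_00, mk_01, mk_10, mk_11]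
    linear_combination (x 0 + 2 * x 1) * h4

theorem up_three_inv [CharP F 2] : up (1 : F) * mthree F * (up 1)⁻¹ = (mthree F)⁻¹ := by
  have h4 : (2 : F) = 0 := CharTwo.two_eq_zero
  rw [mul_inv_eq_iff_eq_mul, eq_inv_mul_iff_mul_eq]
  refine ext_ent ?_ ?_ ?_ ?_ <;> simp only [ent_mul, mthree, mk_00, mk_01, mk_10, mk_11, up_00, up_01, up_10, up_11]
  · linear_combination (0 : F) * h4
  · linear_combination (0 : F) * h4
  · linear_combination h4
  · linear_combination h4

open Classical in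
/-- an element of order 3 on the factor `l`, inverted by an element of `S` -/
theorem exists_three_inv [CharP F 2] (hSP : S ≤ P) (l : Fin k) :
    ∃ g ∈ grp M {l}, Three (fac M l) g ∧ ∃ a ∈ S,
      (∀ v ∈ V, (a * g * a⁻¹) * v * (a * g * a⁻¹)⁻¹ = g⁻¹ * v * g) ∧
        ∀ m, m ≠ l → ∀ v ∈ fac M m, a * v = v * a := by
  obtain ⟨g, hg, h1⟩ := M.lift (Function.update 1 l (mthree F))
  obtain ⟨a, ha, h2⟩ := M.unip (Function.update 0 l 1)
  have haP := hSP ha
  have hg' : g ∈ grp M {l} := ⟨hg, _, h1, fun j hj => Function.update_of_ne hj _ _⟩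
  have ha' : a ∈ grp M {l} := ⟨haP, _, h2, fun j hj => by
    change up (Function.update (0 : Fin k → F) l 1 j) = 1
    rw [Function.update_of_ne hj, Pi.zero_apply, up_zero]⟩
  refine ⟨g, hg', fun v hv => ?_, a, ha, fun v hv => ?_, fun m hm v hv =>
    grp_comm M (Set.disjoint_singleton.2 (Ne.symm hm)) ha' hv⟩
  · have hn := grp_normalizes M {l} {l} hg'
    have h2 : g * v * g⁻¹ ∈ fac M l := (mem_normalizer_iff.1 hn v).1 hv
    have h3 : g * (g * v * g⁻¹) * g⁻¹ ∈ fac M l := (mem_normalizer_iff.1 hn _).1 h2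
    rw [← fac_eq_one M (mul_mem (mul_mem hv h2) h3), M.mul _ (mul_mem hv.1 h2.1) _ h3.1,
      M.mul _ hv.1 _ h2.1, Pi.add_apply, Pi.add_apply, h1.1 _ h2.1 l, h1.1 _ hv.1 l, Function.update_self]
    exact ap_three _
  · have e1 := acts_mul (M := M) (inv_mem haP) (acts_mul (M := M) hg h2 h1) (acts_inv (M := M) haP h2)
    have e2 := acts_inv (M := M) hg h1
    have hAP : a * g * a⁻¹ ∈ P := mul_mem (mul_mem haP hg) (inv_mem haP)
    have e3 : g⁻¹ * v * g = g⁻¹ * v * g⁻¹⁻¹ := by rw [inv_inv]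
    rw [e3]
    refine e_inj M (cj_mem M hAP hv) (cj_mem M (inv_mem hg) hv) (funext fun i => ?_)
    rw [e1.1 v hv i, e2.1 v hv i]
    congr 1
    simp only [Pi.mul_apply, Pi.inv_apply]
    by_cases hi : i = l
    · subst hi
      rw [Function.update_self, Function.update_self]
      exact up_three_inv
    · rw [Function.update_of_ne hi, Function.update_of_ne hi, Pi.one_apply, Pi.zero_apply, up_zero, mul_one,
        inv_one, mul_one]

/-- The vector of the line. -/
theorem exists_z (l : Fin k) : ∃ z ∈ line M l, z ≠ 1 ∧ M.e z l 0 = 1 := by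
  obtain ⟨v, hv, h⟩ := exists_fac M l ![1, 0]
  refine ⟨v, (mem_line M).2 ⟨hv, by rw [h]; rfl⟩, fun h1 => ?_, by rw [h]; rfl⟩
  rw [h1, e_one] at h
  have := congrFun h 0
  simp at this

theorem line_casesV (hF : Nat.card F = 2) {l : Fin k} {z : G} (hz : z ∈ line M l) (hz1 : z ≠ 1) {v : G}
    (hv : v ∈ line M l) : v = 1 ∨ v = z := by
  have hz' := (mem_line M).1 hz
  have hv' := (mem_line M).1 hv
  have hz0 : M.e z l 0 = 1 := by
    rcases two_cases hF (M.e z l 0) with h | h
    · exfalso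
      apply hz1
      rw [← fac_eq_one M hz'.1]
      apply NatPair.ext2
      · rw [h]; rfl
      · rw [hz'.2]; rfl
    · exact h
  rcases two_cases hF (M.e v l 0) with h | h
  · left
    rw [← fac_eq_one M hv'.1]
    apply NatPair.ext2
    · rw [h]; rfl
    · rw [hv'.2]; rfl
  · right
    refine ext_fac M hv'.1 hz'.1 ?_
    apply NatPair.ext2
    · rw [h, hz0]
    · rw [hv'.2, hz'.2]

/-- a vector of `fac M l` fixed by `N_S(fac M l)` lies in the line. -/
theorem mem_line_of_fixed (hSP : S ≤ P) {l : Fin k} {v : G} (hv : v ∈ fac M l)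
    (h : ∀ t ∈ S, t ∈ normalizer (fac M l : Set G) → t * v = v * t) : v ∈ line M l := by
  rw [mem_line]
  refine ⟨hv, ?_⟩
  obtain ⟨t, ht, h2⟩ := M.unip fun _ => 1
  have htn : t ∈ normalizer (fac M l : Set G) :=
    grp_normalizes M Set.univ {l} ⟨hSP ht, _, h2, fun j hj => (hj (Set.mem_univ j)).elim⟩
  have h3 : t * v * t⁻¹ = v := by rw [h t ht htn]; group
  have h4 := h2.1 _ hv.1 l
  rw [h3] at h4
  have h5 := congrFun h4 0
  rw [NatPair.ap_zero'] at h5
  simpa using h5

end

section natD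

variable [Finite G] {S : Sylow 2 G} {P V D : Subgroup G} (M : NatD F S P V D k)

/-- **The data** of THEOREM C with `D`. -/
theorem exists_blkD [CharP F 2] (hF : Nat.card F = 2) :
    ∃ x z : Fin k → G, ThmCD.BlkD (S : Subgroup G) P (o2 P) (fac M.toNatV) x z ∧
      (∀ l, x l ∈ grp M.toNatV {l}) ∧ ∀ l, z l ∈ line M.toNatV l := by
  classical
  choose x hx hx3 a ha hal ham using fun l => exists_three_inv M.toNatV (SP M) l
  choose z hz hz1 hz0 using fun l => exists_z M.toNatV l
  refine ⟨x, z, ?_, hx, hz⟩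
  exact
    { SP := SP M
      S2 := S.isPGroup'
      QS := o2_le_S M
      PQ := MinSimple.VModule.le_normalizer_o2 P
      VA := fun l => (fac_le M.toNatV l).trans (V_le_zz M)
      four := fun l => by rw [card_fac, hF]; norm_num
      perm := fun g hg l => ⟨_, conj_fac M.toNatV hg l⟩
      inj := fun l m h => fac_inj M.toNatV h
      tr := fun l m => exists_trans M.toNatV (SP M) l m
      xP := fun l => (hx l).1
      xn := fun l => grp_normalizes M.toNatV {l} {l} (hx l)
      x3 := hx3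
      xc := fun l i hil v hv => grp_comm M.toNatV (Set.disjoint_singleton.2 (Ne.symm hil)) (hx l) hv
      ker := fun g hg hgV b hb => comm_zz M hg (fun v hv => by
        rw [← iSup_fac M.toNatV] at hv
        have h3 : ⨆ l, fac M.toNatV l ≤ centralizer ({g} : Set G) := by
          refine iSup_le fun l v hv => mem_centralizer_iff.mpr ?_
          rintro _ rfl
          exact hgV l v hv
        exact mem_centralizer_iff.mp (h3 hv) g rfl) hb
      fix := fun b hb hbS => by
        have h1 : b ∈ zc (S : Subgroup G) := MinSimple.VModule.mem_zc.mpr ⟨o2_le_S M (MinSimple.VModule.zc_le _ hb), hbS, zc_sq _ b hb⟩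
        obtain ⟨n, hn, d, hd, h2⟩ := M.dec b (zc_le_zl _ _ h1)
        refine ⟨n, by rw [iSup_fac]; exact hn, d, zl_le_zz M (M.D_le hd), fun l => ?_, h2⟩
        exact (mem_centralizer_iff.mp (M.cD (hx l).1) d hd).symm
      zV := fun l => line_le _ _ (hz l)
      z1 := hz1
      zf := fun l v hv h => line_casesV M.toNatV hF (hz l) (hz1 l) (mem_line_of_fixed M.toNatV (SP M) hv h)
      inv := fun l => ⟨a l, ha l, fun v hv => hal l v (fac_le _ _ hv), ham l⟩ }

/-- The data `DatD` for `P`. -/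
theorem exists_datD [CharP F 2] (hF : Nat.card F = 2) :
    ∃ (Z : Fin k → Subgroup G) (x z : Fin k → G), ThmCD.DatD S (o2 P) Z x z ∧
      (∀ l, fac M.toNatV l ≤ Z l) ∧ (∀ l, x l ∈ grp M.toNatV {l} ∧ Three (fac M.toNatV l) (x l)) ∧
        ∀ l, z l ∈ line M.toNatV l := by
  obtain ⟨x, z, B, hx, hz⟩ := exists_blkD M hF
  have hc := M.hG
  have hP := M.star
  have hSyl := MinSimple.Basic.not_dvd_relIndex S hP.le
  have hcP := IsLoc.char2 S hc hP.isLoc
  have hSC : (S : Subgroup G) ⊓ centralizer (zc (o2 P) : Set G) ≤ o2 P :=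
    (inf_le_inf_left _ (centralizer_le (zl_le_zz M))).trans
      (inf_centralizer_zl hP.toIsMinPar S.isPGroup' hSyl hcP hP.not_zc).le
  exact ⟨B.ML, x, z, B.dat hSC (centralizer_o2_le hc S hP), B.V_le_ML, fun l => ⟨hx l, B.x3 l⟩, hz⟩

/-- elements of `S` which normalise `Z m` normalise `fac M m`. -/
theorem nor_fac_of_datD {Z : Fin k → Subgroup G} {x z : Fin k → G} (D : ThmCD.DatD S (o2 P) Z x z)
    (hZ : ∀ l, fac M.toNatV l ≤ Z l) (hz : ∀ l, z l ∈ line M.toNatV l) {w : G} (hw : w ∈ (S : Subgroup G)) {m : Fin k}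
    (h : w ∈ normalizer (Z m : Set G)) : w ∈ normalizer (fac M.toNatV m : Set G) := by
  rw [mem_normalizer_fac_iff M.toNatV (SP M hw)]
  by_contra hne
  have h1 : w * z m * w⁻¹ ∈ fac M.toNatV (sg M.toNatV (SP M hw) m) := by
    rw [← conj_fac M.toNatV (SP M hw)]
    exact ⟨z m, line_le _ _ (hz m), rfl⟩
  have h2 : w * z m * w⁻¹ ∈ Z m := (mem_normalizer_iff.1 h _).1 (D.zm m)
  have h3 := D.disjZ hne (hZ _ h1) h2
  exact D.z1 m (by simpa using h3)

/-- **THEOREM C**, natural factors, `q = 2`, arbitrary `D`: `O₂(C_G(z)) ≤ S` for `1 ≠ z` in a line, and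
`O₂(C_G(z))` normalises the factors. -/
theorem thmCD [CharP F 2] (hF : Nat.card F = 2) {i : Fin k} {z : G} (hz : z ∈ line M.toNatV i) (hz1 : z ≠ 1) :
    o2 (centralizer ({z} : Set G)) ≤ (S : Subgroup G) ∧
      (∀ m, o2 (centralizer ({z} : Set G)) ≤ normalizer (fac M.toNatV m : Set G)) ∧
      ∀ l, l ≠ i → o2 (centralizer ({z} : Set G)) ≤ centralizer (fac M.toNatV l : Set G) := by
  obtain ⟨Z, x, z', D, hZ, hx, hz'⟩ := exists_datD M hF
  have hzz : z = z' i := (line_casesV M.toNatV hF (hz' i) (D.z1 i) hz).resolve_left hz1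
  rw [hzz]
  have hn : ∀ m, o2 (centralizer ({z' i} : Set G)) ≤ normalizer (fac M.toNatV m : Set G) := fun m w hw =>
    nor_fac_of_datD M D hZ hz' (D.le_S i hw) ((mem_inf.1 (D.le_S0 i hw)).2 |> fun h => (mem_iInf.1 h) m)
  refine ⟨D.le_S i, hn, fun l hl w hw => ?_⟩
  have hwS := D.le_S i hw
  -- `w` fixes `z' l`
  have h1 : w * z' l * w⁻¹ = z' l := by
    have := D.z_conj hwS l
    rwa [(D.mem_S0_iff hwS).1 (D.le_S0 i hw) l] at this
  have h2 : w * (x l * z' l * (x l)⁻¹) * w⁻¹ = x l * z' l * (x l)⁻¹ := by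
    rw [D.comm hl hw (D.le l (D.zm l)), h1]
  have hV4 : Nat.card (fac M.toNatV l) = 4 := by rw [card_fac, hF]; norm_num
  have hsq : ∀ u ∈ fac M.toNatV l, u * u = 1 := fun u hu => sq M.toNatV hu.1
  have hxn := grp_normalizes M.toNatV {l} {l} (hx l).1
  have hzl := line_le _ _ (hz' l)
  obtain ⟨hb1, hab, -, -⟩ := IITwo.Three.three_cycle hsq (fun u hu v hv => comm M.toNatV hu.1 hv.1) hxn (hx l).2
    hzl (D.z1 l)
  have hb := IITwo.Count.conj_mem hxn hzl
  have e1 : w * z' l = z' l * w := by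
    calc w * z' l = w * z' l * w⁻¹ * w := by group
      _ = _ := by rw [h1]
  have e2 : w * (x l * z' l * (x l)⁻¹) = (x l * z' l * (x l)⁻¹) * w := by
    calc w * (x l * z' l * (x l)⁻¹) = w * (x l * z' l * (x l)⁻¹) * w⁻¹ * w := by group
      _ = _ := by rw [h2]
  rw [mem_centralizer_iff]
  intro v hv
  rcases IITwo.Three.four_all hV4 hsq hzl hb (D.z1 l) hb1 hab v hv with h | h | h | h
  · rw [h, one_mul, mul_one]
  · rw [h, e1]
  · rw [h, e2]
  · rw [h]
    calc z' l * (x l * z' l * (x l)⁻¹) * w = z' l * ((x l * z' l * (x l)⁻¹) * w) := by group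
      _ = (z' l * w) * (x l * z' l * (x l)⁻¹) := by rw [← e2]; group
      _ = w * (z' l * (x l * z' l * (x l)⁻¹)) := by rw [← e1]; group

end natD

end Cfsg.Agent.Omega.IId.NV
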