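import Cfsg.Agent.Omega.IId.Cv.Entry

/-!
# THEOREM C with an arbitrary `D`: corollaries (bb OMEGA #19448 (c1), (c2), #20298; helper653, helper941)

`M : NatD F S P V D k`, `QL M i := O₂(N_G(line M i))`.  Hypothesis (THEOREM C): `hC : ∀ i, QL M i ≤ S`
(automatic for `k = 1`: `hC_one`).  Any finite field `F` of characteristic 2, any `k`, any `D`.

* `QL_le_cent` : `QL M i` centralises `fac M l`, `l ≠ i`; `QL_le_stab`, `QL_comm_D`;
* `zl_le_QL` : `V_P ≤ QL M i`; `fac_le_zc`, `D_le_zcQL` : `fac M l` (`l ≠ i`), `D ≤ Ω₁Z(QL M i)`;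
* `comm_QL` : `[V_P, QL M i] ≤ line M i`;
* conjugates: `cj g (QL M i)`, `g ∈ grp M {i}` : `cj_QL_le`, `cj_QL_cent`, `comm_cj_QL`, `cj_QL_nor`;
* `|F| = 2` : `QV v := O₂(C_G(v))`, `1 ≠ v ∈ fac M i` : `exists_QV`, `QV_*`;
* `exists_entry_of` : **a mutual pair natural^k / natural^k' has `|I| = 1`** (all `k`, `k'`).
-/

set_option autoImplicit false
set_option linter.unusedSectionVars false

namespace Cfsg.Agent.Omega.IId.NV

open Subgroup Pointwise Cfsg Cfsg.Agent.ZN Cfsg.Agent.ZN.ChoiceBase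
open Cfsg.Agent.Omega.MinPar Cfsg.Agent.Omega.FFThm
open Cfsg.Agent.Lib.SL2Mat
open Cfsg.Agent.MinSimple
open Cfsg.Agent.Omega.NatPair (ap ap_mul ap_one ap_inv_ap ap_ap_inv exists_ap ap_add)
open Cfsg.Agent.MinSimple.VModule (zc_le zc_comm zc_sq zc_le_zl le_normalizer_o2 o2_isPGroup o2_le
  normalizer_le_normalizer_zc le_normalizer_zl)
open scoped commutatorElement

universe u

section one

variable {G : Type u} [Group G] [Finite G] {F : Type} [Field F] {S : Sylow 2 G} {P V D : Subgroup G} {k : ℕ}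
  (M : NatD F S P V D k)

/-- `O₂(N_G(line M i))` -/
def QL (i : Fin k) : Subgroup G := o2 (normalizer (line M.toNatV i : Set G))

theorem QL_two (i : Fin k) : IsPGroup 2 (QL M i) := o2_isPGroup _

theorem nor_line_le (i : Fin k) : normalizer (line M.toNatV i : Set G) ≤ normalizer (QL M i : Set G) :=
  le_normalizer_o2 _

include M in
theorem V_two : IsPGroup 2 V := S.isPGroup'.to_le (V_le_S M)

/-- `grp M {l} ≤ N_G(line M i)` -/
theorem grp_le_nor_line {i l : Fin k} (h : l ≠ i) :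
    grp M.toNatV {l} ≤ normalizer (line M.toNatV i : Set G) := by
  have h1 : grp M.toNatV {l} ≤ centralizer (fac M.toNatV i : Set G) :=
    grp_le_centralizer M.toNatV (Set.disjoint_singleton.2 h)
  exact (h1.trans (centralizer_le (line_le M.toNatV i))).trans (centralizer_le_normalizer _)

/-- A subgroup of `S` normalised by `grp M {l}` centralises `fac M l`. -/
theorem le_cent_fac {X : Subgroup G} (hX : X ≤ (S : Subgroup G)) {l : Fin k}
    (hn : grp M.toNatV {l} ≤ normalizer (X : Set G)) : X ≤ centralizer (fac M.toNatV l : Set G) := by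
  have hSV : (S : Subgroup G) ≤ normalizer (V : Set G) := (SP M).trans M.nV
  have hV1 : V ≠ ⊥ := fun h => fac_ne_bot M.toNatV l (by rw [eq_bot_iff, ← h]; exact fac_le _ _)
  obtain ⟨z, hz, hz1, hzS⟩ := Half.exists_fixed (V_two M) hV1 S.isPGroup' hSV
  have hzS' : ∀ s ∈ (S : Subgroup G), s * z = z * s := fun s hs => mul_inv_eq_iff_eq_mul.1 (hzS s hs)
  have hzl : M.e z l ≠ 0 := fun h => hz1 (eq_one_of_cent M.toNatV hz hzS' h)
  obtain ⟨a, ha, hae, hab⟩ := exists_component M.toNatV hz l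
  have ha1 : a ≠ 1 := by
    rintro rfl
    rw [e_one] at hae
    exact hzl hae.symm
  -- another vector
  obtain ⟨w, hw, hw1, hwa⟩ : ∃ w ∈ fac M.toNatV l, w ≠ 1 ∧ w ≠ a := by
    obtain ⟨u, hu, hue⟩ := exists_fac M.toNatV l ![1, 0]
    obtain ⟨u', hu', hue'⟩ := exists_fac M.toNatV l ![0, 1]
    have h1 : u ≠ 1 := by
      rintro rfl
      rw [e_one] at hue
      exact zero_ne_one (congrFun hue 0)
    have h2 : u' ≠ 1 := by
      rintro rfl
      rw [e_one] at hue'
      exact zero_ne_one (congrFun hue' 1)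
    by_cases h : u = a
    · refine ⟨u', hu', h2, ?_⟩
      rintro rfl
      rw [h, hue'] at hue
      exact zero_ne_one (congrFun hue 0)
    · exact ⟨u, hu, h1, h⟩
  obtain ⟨x, hx, hxa⟩ := exists_grp M.toNatV ha hw ha1 hw1
  set C : Subgroup G := fac M.toNatV l ⊓ centralizer (X : Set G) with hC
  have hCn : grp M.toNatV {l} ≤ normalizer (C : Set G) := by
    intro g hg
    have h1 := grp_normalizes M.toNatV {l} {l} hg
    have h2 := hn hg
    have h3 : ∀ g ∈ normalizer (X : Set G), ∀ c ∈ centralizer (X : Set G), g * c * g⁻¹ ∈ centralizer (X : Set G) := by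
      intro g hg c hc
      rw [mem_centralizer_iff] at hc ⊢
      intro y hy
      have h4 := hc (g⁻¹ * y * g) (by
        have := (mem_normalizer_iff.1 (inv_mem hg) y).1 hy
        rwa [inv_inv] at this)
      calc y * (g * c * g⁻¹) = g * (g⁻¹ * y * g * c) * g⁻¹ := by group
        _ = g * (c * (g⁻¹ * y * g)) * g⁻¹ := by rw [h4]
        _ = g * c * g⁻¹ * y := by group
    rw [mem_normalizer_iff]
    intro c
    rw [hC, mem_inf, mem_inf]
    refine ⟨fun h => ⟨(mem_normalizer_iff.1 h1 c).1 h.1, h3 g h2 c h.2⟩, fun h => ⟨(mem_normalizer_iff.1 h1 c).2 h.1, ?_⟩⟩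
    have h4 := h3 g⁻¹ (inv_mem h2) _ h.2
    have e : g⁻¹ * (g * c * g⁻¹) * g⁻¹⁻¹ = c := by group
    rwa [e] at h4
  have hC1 : C ≠ ⊥ := by
    intro h0
    have hb : x * (a⁻¹ * z) = a⁻¹ * z * x := grp_comm M.toNatV disjoint_compl_right hx hab
    have h1 : x * z * x⁻¹ * z⁻¹ = w * a⁻¹ := by
      calc x * z * x⁻¹ * z⁻¹ = (x * a * x⁻¹) * (x * (a⁻¹ * z)) * x⁻¹ * z⁻¹ := by group
        _ = w * (a⁻¹ * z * x) * x⁻¹ * z⁻¹ := by rw [hxa, hb]
        _ = w * a⁻¹ := by group
    have h2 : w * a⁻¹ ∈ C := by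
      refine mem_inf.2 ⟨mul_mem hw (inv_mem ha), ?_⟩
      rw [← h1, mem_centralizer_iff]
      intro y hy
      have h3 : y * z = z * y := hzS' y (hX hy)
      have h4 : (x⁻¹ * y * x) * z = z * (x⁻¹ * y * x) := hzS' _ (hX (by
        have := (mem_normalizer_iff.1 (inv_mem (hn hx)) y).1 hy
        rwa [inv_inv] at this))
      have h5 : y * (x * z * x⁻¹) = x * z * x⁻¹ * y := by
        calc y * (x * z * x⁻¹) = x * (x⁻¹ * y * x * z) * x⁻¹ := by group
          _ = x * (z * (x⁻¹ * y * x)) * x⁻¹ := by rw [h4]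
          _ = x * z * x⁻¹ * y := by group
      have h6 : y * z⁻¹ = z⁻¹ * y := (show Commute y z from h3).inv_right
      calc y * (x * z * x⁻¹ * z⁻¹) = y * (x * z * x⁻¹) * z⁻¹ := by group
        _ = x * z * x⁻¹ * (y * z⁻¹) := by rw [h5]; group
        _ = x * z * x⁻¹ * z⁻¹ * y := by rw [h6]; group
    rw [h0, mem_bot] at h2
    exact hwa (mul_inv_eq_one.1 h2)
  have h1 := (fac_irreducible M.toNatV (inf_le_left : C ≤ _) hCn).resolve_left hC1
  intro y hy
  rw [mem_centralizer_iff]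
  intro v hv
  rw [← h1] at hv
  exact (mem_centralizer_iff.1 (mem_inf.1 hv).2 y hy).symm

/-- `hC` for `k = 1` -/
theorem hC_one (M : NatD F S P V D 1) (i : Fin 1) : QL M i ≤ (S : Subgroup G) := by
  have h1 : (S : Subgroup G) ≤ stab M.toNatV i := by
    refine le_inf le_rfl ?_
    have h2 : fac M.toNatV i = V := by
      have h3 : ({i} : Set (Fin 1)) = Set.univ := by
        ext x
        simp [Subsingleton.elim x i]
      rw [fac, h3, part_univ]
    rw [h2]
    exact (SP M).trans M.nV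
  have h2 : (S : Subgroup G) ≤ normalizer (line M.toNatV i : Set G) :=
    h1.trans (stab_normalizes_line M.toNatV (SP M) i)
  exact VModule.o2_le_of_sylow S.isPGroup' (MinSimple.Basic.not_dvd_relIndex S h2)

variable (hC : ∀ i, QL M i ≤ (S : Subgroup G))

include hC

theorem QL_le_P (i : Fin k) : QL M i ≤ P := (hC i).trans (SP M)

/-- `QL M i` centralises the other factors -/
theorem QL_le_cent {i l : Fin k} (h : l ≠ i) : QL M i ≤ centralizer (fac M.toNatV l : Set G) :=
  le_cent_fac M (hC i) ((grp_le_nor_line M h).trans (nor_line_le M i))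

theorem QL_comm {i l : Fin k} (h : l ≠ i) {q v : G} (hq : q ∈ QL M i) (hv : v ∈ fac M.toNatV l) : q * v = v * q :=
  (mem_centralizer_iff.1 (QL_le_cent M hC h hq) v hv).symm

theorem QL_comm_D {i : Fin k} {q d : G} (hq : q ∈ QL M i) (hd : d ∈ D) : q * d = d * q :=
  D_comm M (QL_le_P M hC i hq) hd

theorem QL_le_stab (i : Fin k) : QL M i ≤ stab M.toNatV i := by
  intro q hq
  have hqP := QL_le_P M hC i hq
  refine mem_inf.2 ⟨hC i hq, ?_⟩
  rw [mem_normalizer_fac_iff M.toNatV hqP]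
  by_contra hne
  have h1 : q ∈ normalizer (fac M.toNatV (sg M.toNatV hqP i) : Set G) := by
    rw [mem_normalizer_iff]
    intro v
    have key : ∀ q ∈ QL M i, ∀ v ∈ fac M.toNatV (sg M.toNatV hqP i), q * v * q⁻¹ = v := fun q hq v hv => by
      rw [QL_comm M hC hne hq hv, mul_inv_cancel_right]
    refine ⟨fun hv => by rwa [key q hq v hv], fun hv => ?_⟩
    have h2 := key q⁻¹ (inv_mem hq) _ hv
    have e : q⁻¹ * (q * v * q⁻¹) * q⁻¹⁻¹ = v := by group
    rw [e] at h2
    rwa [← h2] at hv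
  rw [mem_normalizer_fac_iff M.toNatV hqP] at h1
  exact hne ((sg M.toNatV hqP).injective h1)

theorem fac_le_QL_of_ne [CharP F 2] {i l : Fin k} (h : l ≠ i) : fac M.toNatV l ≤ QL M i := by
  refine le_trans (le_inf ?_ ?_) (char2_line' M i)
  · intro v hv
    refine centralizer_le_normalizer _ ?_
    rw [mem_centralizer_iff]
    intro w hw
    exact comm M.toNatV (fac_le _ _ (line_le _ _ hw)) (fac_le _ _ hv)
  · intro v hv
    rw [mem_centralizer_iff]
    intro q hq
    exact QL_comm M hC h hq hv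

theorem D_le_QL [CharP F 2] (i : Fin k) : D ≤ QL M i := by
  refine le_trans (le_inf ?_ ?_) (char2_line' M i)
  · intro d hd
    refine centralizer_le_normalizer _ ?_
    rw [mem_centralizer_iff]
    intro w hw
    have hwP : w ∈ P := SP M (V_le_S M (fac_le _ _ (line_le _ _ hw)))
    exact D_comm M hwP hd
  · intro d hd
    rw [mem_centralizer_iff]
    intro q hq
    exact QL_comm_D M hC hq hd

theorem fac_le_KX_self [CharP F 2] (i : Fin k) : fac M.toNatV i ≤ KX (line M.toNatV i) :=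
  fac_le_KX M.toNatV (SP M) (QL_le_stab M hC i) (o2_cent_line' M i)

theorem fac_le_QL_self [CharP F 2] (i : Fin k) : fac M.toNatV i ≤ QL M i :=
  (fac_le_KX_self M hC i).trans (KX_le (char2_line' M i) fun _ hy => NV.sq M.toNatV ((mem_line _).1 hy).1.1)

theorem part_le_QL {I : Set (Fin k)} {i : Fin k} (h : ∀ l, fac M.toNatV l ≤ QL M i) :
    part M.toNatV I ≤ QL M i := by
  classical
  have key : ∀ T : Finset (Fin k), part M.toNatV (↑T : Set (Fin k)) ≤ QL M i := by
    intro T
    induction T using Finset.induction_on with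
    | empty => rw [Finset.coe_empty, part_empty]; exact bot_le
    | @insert a T ha ih =>
      intro v hv
      obtain ⟨b, hb, hbe, hbc⟩ := exists_component M.toNatV hv.1 a
      have h1 : b⁻¹ * v ∈ part M.toNatV (↑T : Set (Fin k)) := by
        refine ⟨hbc.1, fun j hj => ?_⟩
        by_cases hja : j = a
        · exact hbc.2 j (by rw [hja]; simp)
        · rw [M.mul _ (inv_mem hb.1) _ hv.1, e_inv M.toNatV hb.1, Pi.add_apply, Pi.neg_apply, hb.2 j hja,
            hv.2 j (by rw [Finset.coe_insert]; simp [hja]; simpa using hj), neg_zero, add_zero]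
      have := mul_mem (h a hb) (ih h1)
      rwa [mul_inv_cancel_left] at this
  have h1 : part M.toNatV I ≤ part M.toNatV (↑(Finset.univ : Finset (Fin k)) : Set (Fin k)) :=
    part_mono _ (by rw [Finset.coe_univ]; exact Set.subset_univ _)
  exact h1.trans (key _)

/-- `V_P ≤ QL M i` -/
theorem zl_le_QL [CharP F 2] (i : Fin k) : zl (S : Subgroup G) P ≤ QL M i := by
  intro v hv
  obtain ⟨n, hn, d, hd, rfl⟩ := M.dec v hv
  refine mul_mem ?_ (D_le_QL M hC i hd)
  have h1 := part_le_QL M hC (I := Set.univ) (i := i) fun l => by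
    by_cases h : l = i
    · rw [h]; exact fac_le_QL_self M hC i
    · exact fac_le_QL_of_ne M hC h
  rw [part_univ] at h1
  exact h1 hn

theorem V_le_QL [CharP F 2] (i : Fin k) : V ≤ QL M i := M.V_le.trans (zl_le_QL M hC i)

theorem fac_le_zc [CharP F 2] {i l : Fin k} (h : l ≠ i) : fac M.toNatV l ≤ zc (QL M i) := by
  intro v hv
  refine VModule.mem_zc.2 ⟨fac_le_QL_of_ne M hC h hv, fun q hq => QL_comm M hC h hq hv, ?_⟩
  rw [pow_two]
  exact NV.sq M.toNatV hv.1

theorem D_le_zcQL [CharP F 2] (i : Fin k) : D ≤ zc (QL M i) := by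
  intro d hd
  refine VModule.mem_zc.2 ⟨D_le_QL M hC i hd, fun q hq => QL_comm_D M hC hq hd, ?_⟩
  have h1 := zc_sq _ _ (zl_le_zz M (M.D_le hd))
  exact h1

/-- `[V_P, QL M i] ≤ line M i` -/
theorem comm_QL [CharP F 2] {i : Fin k} {q v : G} (hq : q ∈ QL M i) (hv : v ∈ zl (S : Subgroup G) P) :
    q * v * q⁻¹ * v⁻¹ ∈ line M.toNatV i := by
  obtain ⟨n, hn, d, hd, rfl⟩ := M.dec v hv
  obtain ⟨a, ha, b, hb, rfl⟩ := exists_comp M.toNatV hn {i}
  have h1 : q * b = b * q := by
    -- `b` is a product of elements of the other factors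
    have h2 : part M.toNatV {i}ᶜ ≤ centralizer (QL M i : Set G) := by
      classical
      have key : ∀ T : Finset (Fin k), i ∉ T → part M.toNatV (↑T : Set (Fin k)) ≤ centralizer (QL M i : Set G) := by
        intro T
        induction T using Finset.induction_on with
        | empty => intro _; rw [Finset.coe_empty, part_empty]; exact bot_le
        | @insert c T hc ih =>
          intro hi w hw
          rw [Finset.mem_insert, not_or] at hi
          obtain ⟨b, hb, hbe, hbc⟩ := exists_component M.toNatV hw.1 c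
          have h1 : b⁻¹ * w ∈ part M.toNatV (↑T : Set (Fin k)) := by
            refine ⟨hbc.1, fun j hj => ?_⟩
            by_cases hja : j = c
            · exact hbc.2 j (by rw [hja]; simp)
            · rw [M.mul _ (inv_mem hb.1) _ hw.1, e_inv M.toNatV hb.1, Pi.add_apply, Pi.neg_apply, hb.2 j hja,
                hw.2 j (by rw [Finset.coe_insert]; simp [hja]; simpa using hj), neg_zero, add_zero]
          have h3 : b ∈ centralizer (QL M i : Set G) :=
            mem_centralizer_iff.2 fun q hq => QL_comm M hC (Ne.symm hi.1) hq hb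
          have := mul_mem h3 (ih hi.2 h1)
          rwa [mul_inv_cancel_left] at this
      refine le_trans (part_mono _ ?_) (key (Finset.univ.erase i) (by simp))
      intro j hj
      simpa using hj
    exact mem_centralizer_iff.1 (h2 hb) q hq
  have h2 : q * d = d * q := QL_comm_D M hC hq hd
  have h3 : q * a * q⁻¹ * a⁻¹ ∈ line M.toNatV i := by
    obtain ⟨n, hn⟩ := o2_isPGroup (normalizer (line M.toNatV i : Set G)) ⟨q, hq⟩
    exact comm_line M.toNatV (SP M) (QL_le_stab M hC i hq) ⟨n, congrArg Subtype.val hn⟩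
      (fun r hr => (mem_centralizer_iff.1 (o2_cent_line' M i hq) r hr).symm) ha
  have e : q * (a * b * d) * q⁻¹ * (a * b * d)⁻¹ = q * a * q⁻¹ * a⁻¹ := by
    have e1 : q * (a * b * d) * q⁻¹ = q * a * q⁻¹ * (b * d) := by
      calc q * (a * b * d) * q⁻¹ = q * a * (b * d * q⁻¹) := by group
        _ = q * a * (q⁻¹ * (q * b) * d * q⁻¹) := by group
        _ = q * a * (q⁻¹ * (b * q) * d * q⁻¹) := by rw [h1]
        _ = q * a * q⁻¹ * b * (q * d) * q⁻¹ := by group
        _ = q * a * q⁻¹ * b * (d * q) * q⁻¹ := by rw [h2]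
        _ = q * a * q⁻¹ * (b * d) := by group
    rw [e1]
    group
  rw [e]
  exact h3

/-! ### Conjugates -/

omit hC in
theorem cj_QL (g : G) (i : Fin k) : cj g (QL M i) = o2 (normalizer (cj g (line M.toNatV i) : Set G)) := by
  rw [QL, ← ChoiceBase.pCore_cj, cj_normalizer]

theorem cj_QL_le_P {i : Fin k} {g : G} (hg : g ∈ P) : cj g (QL M i) ≤ P := by
  intro x hx
  rw [mem_cj] at hx
  have h1 := QL_le_P M hC i hx
  have := mul_mem (mul_mem hg h1) (inv_mem hg)
  have e : g * (g⁻¹ * x * g) * g⁻¹ = x := by group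
  rwa [e] at this

theorem cj_QL_comm {i l : Fin k} (h : l ≠ i) {g : G} (hg : g ∈ grp M.toNatV {i}) {q v : G} (hq : q ∈ cj g (QL M i))
    (hv : v ∈ fac M.toNatV l) : q * v = v * q := by
  rw [mem_cj] at hq
  have h1 : g * v = v * g := grp_comm M.toNatV (Set.disjoint_singleton.2 (Ne.symm h)) hg hv
  have h2 := QL_comm M hC h hq hv
  have h3 : g⁻¹ * v = v * g⁻¹ := (show Commute g v from h1).inv_left
  calc q * v = g * (g⁻¹ * q * g) * (g⁻¹ * v) := by group
    _ = g * (g⁻¹ * q * g * v) * g⁻¹ := by rw [h3]; group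
    _ = (g * v) * (g⁻¹ * q * g) * g⁻¹ := by rw [h2]; group
    _ = v * q := by rw [h1]; group

theorem cj_QL_comm_D {i : Fin k} {g : G} (hg : g ∈ P) {q d : G} (hq : q ∈ cj g (QL M i)) (hd : d ∈ D) :
    q * d = d * q := D_comm M (cj_QL_le_P M hC hg hq) hd

/-- `[V_P, QL^g] ≤ (line)^g` -/
theorem comm_cj_QL [CharP F 2] {i : Fin k} {g : G} (hg : g ∈ P) {q v : G} (hq : q ∈ cj g (QL M i))
    (hv : v ∈ zl (S : Subgroup G) P) : q * v * q⁻¹ * v⁻¹ ∈ cj g (line M.toNatV i) := by
  rw [mem_cj] at hq ⊢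
  have h1 : g⁻¹ * v * g ∈ zl (S : Subgroup G) P := by
    have := (mem_normalizer_iff.1 (le_normalizer_zl (S : Subgroup G) P (inv_mem hg)) v).1 hv
    rwa [inv_inv] at this
  have h2 := comm_QL M hC hq h1
  have e : g⁻¹ * q * g * (g⁻¹ * v * g) * (g⁻¹ * q * g)⁻¹ * (g⁻¹ * v * g)⁻¹ = g⁻¹ * (q * v * q⁻¹ * v⁻¹) * g := by group
  rwa [e] at h2

theorem zl_le_cj_QL [CharP F 2] {i : Fin k} {g : G} (hg : g ∈ P) : zl (S : Subgroup G) P ≤ cj g (QL M i) := by
  intro v hv
  rw [mem_cj]
  refine zl_le_QL M hC i ?_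
  have := (mem_normalizer_iff.1 (le_normalizer_zl (S : Subgroup G) P (inv_mem hg)) v).1 hv
  rwa [inv_inv] at this

/-- `QL^g` and `QL^h` for different factors normalise each other -/
theorem cj_QL_nor {i j : Fin k} (hij : i ≠ j) {g h : G} (hg : g ∈ grp M.toNatV {i}) (hh : h ∈ grp M.toNatV {j}) :
    cj g (QL M i) ≤ normalizer (cj h (QL M j) : Set G) := by
  rw [cj_QL M h j]
  refine le_trans ?_ (le_normalizer_o2 _)
  intro q hq
  refine centralizer_le_normalizer _ ?_
  rw [mem_centralizer_iff]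
  intro w hw
  have h1 : w ∈ fac M.toNatV j := by
    rw [SetLike.mem_coe, mem_cj] at hw
    have h2 := (mem_normalizer_iff.1 (grp_normalizes M.toNatV {j} {j} hh) _).1 (line_le _ _ hw)
    have e : h * (h⁻¹ * w * h) * h⁻¹ = w := by group
    rwa [e] at h2
  exact (cj_QL_comm M hC (Ne.symm hij) hg hq h1).symm

end one

/-! ### `|F| = 2` -/

section two

variable {G : Type u} [Group G] [Finite G] {F : Type} [Field F] [Finite F] {S : Sylow 2 G} {P V D : Subgroup G}
  {k : ℕ} (M : NatD F S P V D k) (hF : Nat.card F = 2)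

include hF

/-- the line has order 2 -/
theorem normalizer_line_two {i : Fin k} {z : G} (hz : z ∈ line M.toNatV i) (hz1 : z ≠ 1) :
    normalizer (line M.toNatV i : Set G) = centralizer {z} := by
  have hcard : Nat.card (line M.toNatV i) = 2 := by rw [card_line, hF]
  have hmem : ∀ y ∈ line M.toNatV i, y = 1 ∨ y = z := by
    intro y hy
    by_contra hcon
    push Not at hcon
    have h1 : ({1, z, y} : Set G).ncard = 3 := by
      rw [Set.ncard_eq_three]
      exact ⟨1, z, y, hz1.symm, hcon.1.symm, hcon.2.symm, rfl⟩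
    have h2 : ({1, z, y} : Set G) ⊆ (line M.toNatV i : Set G) := by
      rintro w (rfl | rfl | rfl)
      · exact one_mem _
      · exact hz
      · exact hy
    have h3 := Set.ncard_le_ncard h2 (Set.toFinite _)
    rw [h1, ← Nat.card_coe_set_eq] at h3
    change 3 ≤ Nat.card (line M.toNatV i) at h3
    omega
  ext g
  rw [mem_centralizer_singleton_iff, mem_normalizer_iff]
  constructor
  · intro h
    rcases hmem _ ((h z).1 hz) with h1 | h1
    · exact absurd (by
        have : z = g⁻¹ * (g * z * g⁻¹) * g := by group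
        rw [this, h1]; group) hz1
    · exact mul_inv_eq_iff_eq_mul.1 h1
  · intro h y
    have h1 : g * z * g⁻¹ = z := mul_inv_eq_iff_eq_mul.2 h
    constructor
    · intro hy
      rcases hmem y hy with rfl | rfl
      · simp
      · rwa [h1]
    · intro hy
      rcases hmem _ hy with h2 | h2
      · have : y = g⁻¹ * (g * y * g⁻¹) * g := by group
        rw [this, h2]; simp
      · have : y = g⁻¹ * (g * y * g⁻¹) * g := by group
        rw [this, h2]
        have h3 : g⁻¹ * z * g = z := by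
          calc g⁻¹ * z * g = g⁻¹ * (g * z * g⁻¹) * g := by rw [h1]
            _ = z := by group
        rwa [h3]

theorem QL_eq {i : Fin k} {z : G} (hz : z ∈ line M.toNatV i) (hz1 : z ≠ 1) : QL M i = o2 (centralizer {z}) := by
  rw [QL, normalizer_line_two M hF hz hz1]

/-- `hC` from the element form of THEOREM C -/
theorem hC_of {z : Fin k → G} (hz : ∀ i, z i ∈ line M.toNatV i) (hz1 : ∀ i, z i ≠ 1)
    (h : ∀ i, o2 (centralizer {z i}) ≤ (S : Subgroup G)) (i : Fin k) : QL M i ≤ (S : Subgroup G) := by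
  rw [QL_eq M hF (hz i) (hz1 i)]
  exact h i

/-- `O₂(C_G(v))`, `1 ≠ v ∈ fac M i`, is a conjugate of `QL M i` -/
theorem exists_QV {i : Fin k} {v : G} (hv : v ∈ fac M.toNatV i) (hv1 : v ≠ 1) :
    ∃ g ∈ grp M.toNatV {i}, ∃ z ∈ line M.toNatV i, z ≠ 1 ∧ g * z * g⁻¹ = v ∧
      o2 (centralizer {v}) = cj g (QL M i) ∧ ∀ y ∈ cj g (line M.toNatV i), y = 1 ∨ y = v := by
  have hcard : Nat.card (line M.toNatV i) = 2 := by rw [card_line, hF]
  obtain ⟨z, hz1⟩ : ∃ z : line M.toNatV i, z ≠ 1 := by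
    have : Nontrivial (line M.toNatV i) := by
      rw [← Finite.one_lt_card_iff_nontrivial, hcard]
      norm_num
    exact exists_ne 1
  have hz1' : (z : G) ≠ 1 := fun h => hz1 (Subtype.ext h)
  obtain ⟨g, hg, e⟩ := exists_grp M.toNatV (line_le _ _ z.2) hv hz1' hv1
  have hcz : centralizer {v} = cj g (centralizer {(z : G)}) := by
    ext x
    rw [mem_cj, mem_centralizer_singleton_iff, mem_centralizer_singleton_iff, ← e]
    constructor
    · intro h
      calc g⁻¹ * x * g * z = g⁻¹ * (x * (g * z * g⁻¹)) * g := by group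
        _ = g⁻¹ * (g * z * g⁻¹ * x) * g := by rw [h]
        _ = z * (g⁻¹ * x * g) := by group
    · intro h
      calc x * (g * z * g⁻¹) = g * (g⁻¹ * x * g * z) * g⁻¹ := by group
        _ = g * (z * (g⁻¹ * x * g)) * g⁻¹ := by rw [h]
        _ = g * z * g⁻¹ * x := by group
  refine ⟨g, hg, z, z.2, hz1', e, ?_, ?_⟩
  · rw [QL_eq M hF z.2 hz1', hcz, ChoiceBase.pCore_cj]
  · intro y hy
    rw [mem_cj] at hy
    have hmem : ∀ y ∈ line M.toNatV i, y = 1 ∨ y = z := by
      intro y hy
      by_contra hcon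
      push Not at hcon
      have h1 : ({1, (z : G), y} : Set G).ncard = 3 := by
        rw [Set.ncard_eq_three]
        exact ⟨1, z, y, hz1'.symm, hcon.1.symm, hcon.2.symm, rfl⟩
      have h2 : ({1, (z : G), y} : Set G) ⊆ (line M.toNatV i : Set G) := by
        rintro w (rfl | rfl | rfl)
        · exact one_mem _
        · exact z.2
        · exact hy
      have h3 := Set.ncard_le_ncard h2 (Set.toFinite _)
      rw [h1, ← Nat.card_coe_set_eq] at h3
      change 3 ≤ Nat.card (line M.toNatV i) at h3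
      omega
    rcases hmem _ hy with h | h
    · left
      have : y = g * (g⁻¹ * y * g) * g⁻¹ := by group
      rw [this, h]; simp
    · right
      have : y = g * (g⁻¹ * y * g) * g⁻¹ := by group
      rw [this, h, e]

variable (hC : ∀ i, QL M i ≤ (S : Subgroup G))

include hC

theorem QV_le_P {i : Fin k} {v : G} (hv : v ∈ fac M.toNatV i) (hv1 : v ≠ 1) : o2 (centralizer {v}) ≤ P := by
  obtain ⟨g, hg, -, -, -, -, h, -⟩ := exists_QV M hF hv hv1
  rw [h]
  exact cj_QL_le_P M hC (grp_le _ _ hg)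

theorem QV_comm {i l : Fin k} (hl : l ≠ i) {v : G} (hv : v ∈ fac M.toNatV i) (hv1 : v ≠ 1) {q w : G}
    (hq : q ∈ o2 (centralizer {v})) (hw : w ∈ fac M.toNatV l) : q * w = w * q := by
  obtain ⟨g, hg, -, -, -, -, h, -⟩ := exists_QV M hF hv hv1
  rw [h] at hq
  exact cj_QL_comm M hC hl hg hq hw

theorem QV_comm_D {i : Fin k} {v : G} (hv : v ∈ fac M.toNatV i) (hv1 : v ≠ 1) {q d : G}
    (hq : q ∈ o2 (centralizer {v})) (hd : d ∈ D) : q * d = d * q :=
  D_comm M (QV_le_P M hF hC hv hv1 hq) hd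

theorem zl_le_QV [CharP F 2] {i : Fin k} {v : G} (hv : v ∈ fac M.toNatV i) (hv1 : v ≠ 1) :
    zl (S : Subgroup G) P ≤ o2 (centralizer {v}) := by
  obtain ⟨g, hg, -, -, -, -, h, -⟩ := exists_QV M hF hv hv1
  rw [h]
  exact zl_le_cj_QL M hC (grp_le _ _ hg)

theorem fac_le_zc_QV [CharP F 2] {i l : Fin k} (hl : l ≠ i) {v : G} (hv : v ∈ fac M.toNatV i) (hv1 : v ≠ 1) :
    fac M.toNatV l ≤ zc (o2 (centralizer {v})) := by
  intro w hw
  refine VModule.mem_zc.2 ⟨zl_le_QV M hF hC hv hv1 (M.V_le hw.1), fun q hq => QV_comm M hF hC hl hv hv1 hq hw, ?_⟩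
  rw [pow_two]
  exact NV.sq M.toNatV hw.1

theorem D_le_zc_QV [CharP F 2] {i : Fin k} {v : G} (hv : v ∈ fac M.toNatV i) (hv1 : v ≠ 1) :
    D ≤ zc (o2 (centralizer {v})) := by
  intro d hd
  exact VModule.mem_zc.2 ⟨zl_le_QV M hF hC hv hv1 (M.D_le hd), fun q hq => QV_comm_D M hF hC hv hv1 hq hd,
    zc_sq _ _ (zl_le_zz M (M.D_le hd))⟩

/-- `[V_P, O₂(C_G(v))] ≤ ⟨v⟩` -/
theorem comm_QV [CharP F 2] {i : Fin k} {v : G} (hv : v ∈ fac M.toNatV i) (hv1 : v ≠ 1) {q w : G}
    (hq : q ∈ o2 (centralizer {v})) (hw : w ∈ zl (S : Subgroup G) P) :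
    q * w * q⁻¹ * w⁻¹ = 1 ∨ q * w * q⁻¹ * w⁻¹ = v := by
  obtain ⟨g, hg, -, -, -, -, h, h1⟩ := exists_QV M hF hv hv1
  rw [h] at hq
  exact h1 _ (comm_cj_QL M hC (grp_le _ _ hg) hq hw)

/-- `O₂(C_G(v))`, `O₂(C_G(w))` normalise each other for `v`, `w` in different factors -/
theorem QV_nor {i j : Fin k} (hij : i ≠ j) {v w : G} (hv : v ∈ fac M.toNatV i) (hv1 : v ≠ 1)
    (hw : w ∈ fac M.toNatV j) :
    o2 (centralizer {v}) ≤ normalizer (o2 (centralizer {w}) : Set G) := by
  refine le_trans ?_ (le_normalizer_o2 _)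
  intro q hq
  rw [mem_centralizer_singleton_iff]
  exact QV_comm M hF hC (Ne.symm hij) hv hv1 hq hw

end two

/-! ### (c1): `|I| = 1` -/

section pair

variable {G : Type u} [Group G] [Finite G] {F F' : Type} [Field F] [Field F'] {S S' : Sylow 2 G}
  {P V D P' V' D' : Subgroup G} {k k' : ℕ}

/-- **(c1)**: entry theorem, any number of factors, if THEOREM C holds for both members. -/
theorem exists_entry_of [CharP F 2] [CharP F' 2] [Finite F] [Finite F'] (h : Pair S S' P P')
    (hT : NoOver (zl (S : Subgroup G) P) P) (hT' : NoOver (zl (S' : Subgroup G) P') P')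
    (M : NatD F S P V D k) (M' : NatD F' S' P' V' D' k') (hC : ∀ i, QL M i ≤ (S : Subgroup G))
    (hC' : ∀ i, QL M' i ≤ (S' : Subgroup G)) : ∃ i i', Ent M M' i i' := by
  obtain ⟨I, I', hp⟩ := exists_pairD h hT hT' M M'
  obtain ⟨i, hi⟩ := hp.nonempty
  have hk0 : 0 < k' := by
    obtain ⟨j, -⟩ := hp.symm.nonempty
    exact j.pos
  obtain ⟨i', hi', hl, hact⟩ := exists_match hp.ind hp.ind' hp.symm.V_le' hp.V_le' hk0 hi
  -- `I = {i}`
  have hI : I = {i} := by
    by_contra hcon
    obtain ⟨j, hj, hji⟩ : ∃ j ∈ I, j ≠ i := by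
      by_contra h0
      push Not at h0
      apply hcon
      ext x
      exact ⟨fun hx => h0 x hx, fun hx => by rw [show x = i from hx]; exact hi⟩
    obtain ⟨j', -, hl', hact'⟩ := exists_match hp.ind hp.ind' hp.symm.V_le' hp.V_le' hk0 hj
    have hne : i' ≠ j' := by
      rintro rfl
      exact hji (line_inj (M := M.toNatV) (hl'.trans hl.symm).le)
    obtain ⟨v, hv, w, hw, hvw⟩ := hp.exists_ne hact'
    have h2 : w ∈ QL M' i' := fac_le_QL_of_ne M' hC' hne.symm hw
    rw [QL, ← hl] at h2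
    exact hvw (QL_comm M hC hji h2 hv).symm
  subst hI
  -- `I' = {i'}`
  have hI' : I' = {i'} := by
    ext x
    refine ⟨fun hx => ?_, fun hx => by rw [show x = i' from hx]; exact hi'⟩
    have h1 : line M'.toNatV x ≤ line M'.toNatV i' := by
      rw [← hl]
      change _ ≤ lines M.toNatV {i}
      rw [hp.lines_eq]
      exact lines_mono M'.toNatV (Set.singleton_subset_iff.2 hx)
    exact line_inj (M := M'.toNatV) h1
  subst hI'
  have hc : Nat.card F' = Nat.card F := by
    rw [← card_line M.toNatV i, ← card_line M'.toNatV i', hl]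
  refine ⟨i, i', hp.pair, hp.ind, hp.ind', hp.commutator_eq, hl, hc, fac_le_KX_self M hC i, ?_,
    fac_le_QL_self M hC i, ?_, hp.exists_ne hact⟩
  · rw [hl]; exact fac_le_KX_self M' hC' i'
  · rw [hl]; exact fac_le_QL_self M' hC' i'

end pair

end Cfsg.Agent.Omega.IId.NV
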