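import Cfsg.Agent.Omega.IId.ThmCD.Count

/-!
# THEOREM C with an arbitrary `D` (bb OMEGA #19448, helper653): step (A3)

`S` a Sylow 2-subgroup permutes the `z l` (`l : ι`) transitively and the elementary abelian groups `F l ∋ z l`
accordingly, `C_{F l}(C_S(z l)) = ⟨z l⟩`.

* `a_three` : if `u ∈ O₂(C_G(z o))` normalises `F l` for all `l ≠ o`, then `u` centralises all `z l`; more precisely
  `u ∈ O₂(C_G(z l : l))`, so `u ∈ S`.
-/

set_option autoImplicit false

namespace Cfsg.Agent.Omega.IId.ThmCD

open Subgroup Cfsg Cfsg.Agent.MinSimple.VModule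
open Cfsg.Agent.ZN (zc o2)
open Cfsg.Agent.Omega.Half (exists_index_two mul_mem_of_index_two)

universe u

variable {G : Type u} [Group G]

/-- a 2-group acting on a nontrivial 2-group has a nontrivial fixed point -/
theorem exists_fix [Finite G] {Y F : Subgroup G} (hY : IsPGroup 2 Y) (hF : IsPGroup 2 F)
    (hn : Y ≤ normalizer (F : Set G)) {z : G} (hz : z ∈ F) (hz1 : z ≠ 1) :
    ∃ v ∈ F, v ≠ 1 ∧ ∀ y ∈ Y, y * v * y⁻¹ = v := by
  have : Fact (Nat.Prime 2) := ⟨Nat.prime_two⟩
  let act : MulAction Y F :=
    { smul := fun y v => ⟨(y : G) * v * (y : G)⁻¹, (mem_normalizer_iff.1 (hn y.2) _).1 v.2⟩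
      one_smul := fun v => Subtype.ext (by
        change ((1 : Y) : G) * v * ((1 : Y) : G)⁻¹ = v
        simp)
      mul_smul := fun a b v => Subtype.ext (by
        change ((a * b : Y) : G) * v * ((a * b : Y) : G)⁻¹ = (a : G) * ((b : G) * v * (b : G)⁻¹) * (a : G)⁻¹
        simp [mul_assoc]) }
  have hsm : ∀ (y : Y) (v : F), ((y • v : F) : G) = (y : G) * v * (y : G)⁻¹ := fun _ _ => rfl
  have hdvd : 2 ∣ Nat.card F := by
    obtain ⟨n, hn⟩ := IsPGroup.iff_card.1 hF
    have h1 : 1 < Nat.card F := by
      have : Nontrivial F := ⟨⟨⟨z, hz⟩, 1, fun h => hz1 (congrArg Subtype.val h)⟩⟩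
      exact Finite.one_lt_card
    rw [hn] at h1 ⊢
    exact dvd_pow_self 2 (by rintro rfl; simp at h1)
  have h1 : (1 : F) ∈ MulAction.fixedPoints Y F := fun y => Subtype.ext (by rw [hsm]; simp)
  obtain ⟨b, hb, hb1⟩ := hY.exists_fixed_point_of_prime_dvd_card_of_fixed_point F hdvd h1
  refine ⟨b, b.2, fun h => hb1 (Subtype.ext h.symm), fun y hy => ?_⟩
  exact congrArg Subtype.val (hb ⟨y, hy⟩)

/-- **(A3).** -/
theorem a_three_mem [Finite G] (S : Sylow 2 G) {ι : Type} (z : ι → G)
    (hz1 : ∀ l, z l ≠ 1)
    (hS : ∀ s ∈ (S : Subgroup G), ∀ l, ∃ m, s * z l * s⁻¹ = z m)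
    (htr : ∀ l m, ∃ s ∈ (S : Subgroup G), s * z l * s⁻¹ = z m) (F : ι → Subgroup G)
    (hF2 : ∀ l, IsPGroup 2 (F l)) (hzF : ∀ l, z l ∈ F l)
    (hFS : ∀ s ∈ (S : Subgroup G), ∀ l m, s * z l * s⁻¹ = z m → ∀ v ∈ F l, s * v * s⁻¹ ∈ F m)
    (hfix : ∀ l, ∀ v ∈ F l, (∀ s ∈ (S : Subgroup G), s * z l * s⁻¹ = z l → s * v * s⁻¹ = v) → v = 1 ∨ v = z l)
    {o : ι} {u : G} (hu : u ∈ o2 (centralizer {z o})) (huF : ∀ l, l ≠ o → u ∈ normalizer (F l : Set G)) :
    u ∈ o2 (centralizer (Set.range z)) := by
  classical
  have hSinv : ∀ s ∈ (S : Subgroup G), ∀ l m, s * z l * s⁻¹ = z m → s⁻¹ * z m * s⁻¹⁻¹ = z l := by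
    intro s _ l m h
    rw [← h]
    group
  have hFn : ∀ s ∈ (S : Subgroup G), ∀ l, s * z l * s⁻¹ = z l → s ∈ normalizer (F l : Set G) := by
    intro s hs l h
    rw [mem_normalizer_iff]
    intro v
    refine ⟨hFS s hs l l h v, fun hv => ?_⟩
    have h1 := hFS s⁻¹ (inv_mem hs) l l (hSinv s hs l l h) _ hv
    have e : s⁻¹ * (s * v * s⁻¹) * s⁻¹⁻¹ = v := by group
    rwa [e] at h1
  -- orbits
  let Φ : Subgroup G → Set G := fun R => {w | ∃ r ∈ R, r * z o * r⁻¹ = w}
  have key : ∀ (n : ℕ) (R : Subgroup G), Nat.card R ≤ n → (S : Subgroup G) ⊓ centralizer {z o} ≤ R →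
      R ≤ (S : Subgroup G) → ∀ r ∈ R, r * u * r⁻¹ ∈ o2 (centralizer (Φ R)) := by
    intro n
    induction n with
    | zero => intro R hR; have := Nat.card_pos (α := R); omega
    | succ n ih =>
      intro R hcard h0 hRS
      -- it suffices to treat `u`
      have hnor : R ≤ normalizer (centralizer (Φ R) : Set G) := by
        intro r hr
        refine nor_centralizer ?_ ?_
        · rintro _ ⟨t, ht, rfl⟩
          exact ⟨r * t, mul_mem hr ht, by group⟩
        · rintro _ ⟨t, ht, rfl⟩
          exact ⟨r⁻¹ * t, mul_mem (inv_mem hr) ht, by group⟩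
      suffices h : u ∈ o2 (centralizer (Φ R)) from fun r hr => (mem_normalizer_iff.1 (nor_o2 (hnor hr)) u).1 h
      by_cases hR0 : R ≤ (S : Subgroup G) ⊓ centralizer {z o}
      · -- `Φ R = {z o}`
        have : Φ R = {z o} := by
          ext w
          constructor
          · rintro ⟨r, hr, rfl⟩
            have h1 := (mem_centralizer_singleton_iff.1 (mem_inf.1 (hR0 hr)).2)
            rw [Set.mem_singleton_iff, h1, mul_inv_cancel_right]
          · rintro rfl
            exact ⟨1, one_mem _, by group⟩
        rw [this]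
        exact hu
      · obtain ⟨R', h0', hR', hidx⟩ := exists_index_two (S.2.to_le hRS) h0 hR0
        have hlt : Nat.card R' < Nat.card R := by
          have h1 := card_mul_relIndex_of_le hR'
          rw [hidx] at h1
          have := Nat.card_pos (α := R')
          omega
        have ih' := ih R' (by omega) h0' (hR'.trans hRS)
        -- `A'`
        set A' : Subgroup G := closure {w | ∃ r ∈ R', r * u * r⁻¹ = w} with hA'
        have hA'o : A' ≤ o2 (centralizer (Φ R')) := by
          rw [hA', closure_le]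
          rintro _ ⟨r, hr, rfl⟩
          exact ih' r hr
        have hA'2 : IsPGroup 2 A' := (o2_isPGroup _).to_le hA'o
        have hA'n : R' ≤ normalizer (A' : Set G) := by
          have key : ∀ r ∈ R', ∀ a ∈ A', r * a * r⁻¹ ∈ A' := by
            intro r hr a ha
            have h1 : A' ≤ A'.comap (MulAut.conj r).toMonoidHom := by
              rw [hA', closure_le]
              rintro _ ⟨t, ht, rfl⟩
              refine subset_closure ⟨r * t, mul_mem hr ht, ?_⟩
              simp [mul_assoc]
            exact h1 ha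
          intro r hr
          rw [mem_normalizer_iff]
          intro a
          refine ⟨key r hr a, fun h => ?_⟩
          have h1 := key r⁻¹ (inv_mem hr) _ h
          have e : r⁻¹ * (r * a * r⁻¹) * r⁻¹⁻¹ = a := by group
          rwa [e] at h1
        have huA' : u ∈ A' := subset_closure ⟨1, one_mem _, by group⟩
        -- `A'` centralises `Φ R`
        have hcen : ∀ w ∈ Φ R, ∀ a ∈ A', a * w = w * a := by
          rintro w ⟨t, ht, rfl⟩
          by_cases htR : t ∈ R'
          · intro a ha
            have h1 := o2_le _ (hA'o ha)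
            exact (mem_centralizer_iff.1 h1 _ ⟨t, htR, rfl⟩).symm
          · obtain ⟨l, hl⟩ := hS t (hRS ht) o
            rw [hl]
            -- `l` is not in the orbit of `R'`
            have hlR : ∀ r ∈ R', r * z o * r⁻¹ ≠ z l := by
              intro r hr e
              have h1 : r⁻¹ * t ∈ (S : Subgroup G) ⊓ centralizer {z o} := by
                refine mem_inf.2 ⟨mul_mem (inv_mem (hRS (hR' hr))) (hRS ht), ?_⟩
                rw [mem_centralizer_singleton_iff, ← mul_inv_eq_iff_eq_mul]
                calc r⁻¹ * t * z o * (r⁻¹ * t)⁻¹ = r⁻¹ * (t * z o * t⁻¹) * r := by group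
                  _ = r⁻¹ * (r * z o * r⁻¹) * r := by rw [hl, e]
                  _ = z o := by group
              have h2 := mul_mem hr (h0' h1)
              rw [mul_inv_cancel_left] at h2
              exact htR h2
            -- `C_S(z l) ≤ R'`
            have hTl : (S : Subgroup G) ⊓ centralizer {z l} ≤ R' := by
              intro s hs
              rw [mem_inf, mem_centralizer_singleton_iff] at hs
              have h1 : t⁻¹ * s * t ∈ (S : Subgroup G) ⊓ centralizer {z o} := by
                refine mem_inf.2 ⟨mul_mem (mul_mem (inv_mem (hRS ht)) hs.1) (hRS ht), ?_⟩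
                rw [mem_centralizer_singleton_iff, ← mul_inv_eq_iff_eq_mul]
                have h2 : s * z l * s⁻¹ = z l := mul_inv_eq_iff_eq_mul.2 hs.2
                calc t⁻¹ * s * t * z o * (t⁻¹ * s * t)⁻¹ = t⁻¹ * (s * (t * z o * t⁻¹) * s⁻¹) * t := by group
                  _ = t⁻¹ * (t * z o * t⁻¹) * t := by rw [hl, h2]
                  _ = z o := by group
              have h2 : t⁻¹ * s * t ∈ R' := h0' h1
              have h3 : s * t ∈ R := by
                have := mul_mem ht (hR' h2)
                have e : t * (t⁻¹ * s * t) = s * t := by group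
                rwa [e] at this
              have hsR : s ∈ R := by
                have := mul_mem h3 (inv_mem ht)
                rwa [mul_inv_cancel_right] at this
              by_contra hsR'
              have h4 : s * t ∈ R' := (mul_mem_of_index_two hidx hsR ht).2 ⟨fun h => absurd h hsR', fun h => absurd h htR⟩
              have h5 : t⁻¹ * (s * t) ∉ R' := fun h => by
                rcases (mul_mem_of_index_two hidx (inv_mem ht) h3).1 h with h6
                exact htR (inv_mem_iff.1 (h6.2 h4))
              exact h5 (by rw [← mul_assoc]; exact h2)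
            set T : Subgroup G := (S : Subgroup G) ⊓ centralizer {z l} with hT
            have hTF : T ≤ normalizer (F l : Set G) := fun s hs => by
              rw [hT, mem_inf, mem_centralizer_singleton_iff] at hs
              exact hFn s hs.1 l (mul_inv_eq_iff_eq_mul.2 hs.2)
            have hA'F : A' ≤ normalizer (F l : Set G) := by
              rw [hA', closure_le]
              rintro _ ⟨r, hr, rfl⟩
              have hrS := hRS (hR' hr)
              obtain ⟨m, hm⟩ := hS r⁻¹ (inv_mem hrS) l
              have hm' : r * z m * r⁻¹ = z l := by rw [← hm]; group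
              have hmo : m ≠ o := by
                rintro rfl
                exact hlR r hr hm'
              have h1 := huF m hmo
              change r * u * r⁻¹ ∈ normalizer (F l : Set G)
              rw [mem_normalizer_iff] at h1 ⊢
              have hiff : ∀ v, v ∈ F l ↔ r⁻¹ * v * r ∈ F m := by
                intro v
                constructor
                · intro hv
                  have := hFS r⁻¹ (inv_mem hrS) l m hm v hv
                  rwa [inv_inv] at this
                · intro hv
                  have := hFS r hrS m l hm' _ hv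
                  have e : r * (r⁻¹ * v * r) * r⁻¹ = v := by group
                  rwa [e] at this
              intro v
              rw [hiff, hiff, h1]
              have e : r⁻¹ * (r * u * r⁻¹ * v * (r * u * r⁻¹)⁻¹) * r = u * (r⁻¹ * v * r) * u⁻¹ := by group
              rw [e]
            have hY2 : IsPGroup 2 ↥(T ⊔ A') :=
              (S.2.to_le inf_le_left : IsPGroup 2 T).to_sup_of_normal_right' hA'2 (hTl.trans hA'n)
            obtain ⟨v, hv, hv1, hvY⟩ := exists_fix hY2 (hF2 l) (sup_le hTF hA'F) (hzF l) (hz1 l)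
            have hvz : v = z l := by
              refine (hfix l v hv fun s hs he => hvY s (mem_sup_left ?_)).resolve_left hv1
              rw [hT, mem_inf, mem_centralizer_singleton_iff]
              exact ⟨hs, mul_inv_eq_iff_eq_mul.1 he⟩
            intro a ha
            have h1 := hvY a (mem_sup_right ha)
            rw [hvz] at h1
            exact mul_inv_eq_iff_eq_mul.1 h1
        -- the end of the step
        have hsub' : Φ R' ⊆ Φ R := by
          rintro w ⟨r, hr, e⟩
          exact ⟨r, hR' hr, e⟩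
        have hsub : centralizer (Φ R) ≤ centralizer (Φ R') := centralizer_le hsub'
        have h2 : o2 (centralizer (Φ R')) ⊓ centralizer (Φ R) ≤ o2 (centralizer (Φ R)) := by
          refine le_o2 inf_le_right ((o2_isPGroup _).to_le inf_le_left) fun x hx => ?_
          exact nor_inf (le_normalizer_o2 _ (hsub hx)) (le_normalizer hx)
        exact h2 (mem_inf.2 ⟨hA'o huA', mem_centralizer_iff.2 fun w hw => (hcen w hw u huA').symm⟩)
  have h1 := key _ (S : Subgroup G) le_rfl inf_le_left le_rfl 1 (one_mem _)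
  have h2 : Φ (S : Subgroup G) = Set.range z := by
    ext w
    constructor
    · rintro ⟨r, hr, rfl⟩
      obtain ⟨m, hm⟩ := hS r hr o
      exact ⟨m, hm.symm⟩
    · rintro ⟨l, rfl⟩
      obtain ⟨s, hs, e⟩ := htr o l
      exact ⟨s, hs, e⟩
  rw [h2] at h1
  simpa using h1

/-- **(A3)**, the version used in THEOREM C. -/
theorem a_three [Finite G] (S : Sylow 2 G) {ι : Type} (z : ι → G)
    (hz1 : ∀ l, z l ≠ 1)
    (hS : ∀ s ∈ (S : Subgroup G), ∀ l, ∃ m, s * z l * s⁻¹ = z m)
    (htr : ∀ l m, ∃ s ∈ (S : Subgroup G), s * z l * s⁻¹ = z m) (F : ι → Subgroup G)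
    (hF2 : ∀ l, IsPGroup 2 (F l)) (hzF : ∀ l, z l ∈ F l)
    (hFS : ∀ s ∈ (S : Subgroup G), ∀ l m, s * z l * s⁻¹ = z m → ∀ v ∈ F l, s * v * s⁻¹ ∈ F m)
    (hfix : ∀ l, ∀ v ∈ F l, (∀ s ∈ (S : Subgroup G), s * z l * s⁻¹ = z l → s * v * s⁻¹ = v) → v = 1 ∨ v = z l)
    {o : ι} {u : G} (hu : u ∈ o2 (centralizer {z o})) (huF : ∀ l, l ≠ o → u ∈ normalizer (F l : Set G)) :
    u ∈ (S : Subgroup G) ∧ ∀ l, u * z l = z l * u := by
  have h1 := a_three_mem S z hz1 hS htr F hF2 hzF hFS hfix hu huF
  refine ⟨?_, fun l => (mem_centralizer_iff.1 (o2_le _ h1) _ ⟨l, rfl⟩).symm⟩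
  refine le_sylow_of_normalized S (o2_isPGroup _) (fun s hs => nor_o2 (nor_centralizer ?_ ?_)) h1
  · rintro _ ⟨l, rfl⟩
    obtain ⟨m, hm⟩ := hS s hs l
    exact ⟨m, hm.symm⟩
  · rintro _ ⟨l, rfl⟩
    obtain ⟨m, hm⟩ := hS s⁻¹ (inv_mem hs) l
    exact ⟨m, by rw [← hm, inv_inv]⟩

end Cfsg.Agent.Omega.IId.ThmCD
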