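import Cfsg.Agent.Omega.IId.ThmCD.Out
import Cfsg.Agent.Omega.IId.ThmCD.Count

/-!
# THEOREM C for natural factors, `q = 2`, arbitrary `D` (bb OMEGA 19448)

`DatD.le_S` : `O₂(C_G(z o)) ≤ S`;  `DatD.le_S0` : it lies in `⋂ N_S(Z l)`;  `DatD.le_C` : it centralises `Z l`-parts
`⟨z l ^ ⟨x l⟩⟩`, `l ≠ o`.
-/

set_option autoImplicit false

namespace Cfsg.Agent.Omega.IId.ThmCD

open Subgroup Cfsg Cfsg.Agent.MinSimple.VModule Cfsg.Agent.Omega.ThmC
open Cfsg.Agent.ZN (zc o2)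

universe u

variable {G : Type u} [Group G]

namespace DatD

variable {S : Sylow 2 G} {Q : Subgroup G} {ι : Type} {Z : ι → Subgroup G} {x z : ι → G}

variable [Finite G] [Finite ι] (D : DatD S Q Z x z)

include D

/-- **THEOREM C**, `q = 2`, arbitrary `D`. -/
theorem le_S (o : ι) : o2 (centralizer {z o}) ≤ (S : Subgroup G) := by
  classical
  by_contra h
  obtain ⟨A, J, ho, hJ, hA, hAl, hi⟩ := D.out h
  refine count S z (fun l m h => D.z_inj h) (fun s hs l => ⟨_, D.z_conj hs l⟩) (fun l m => ?_) o A J ho hJ hA hAl hi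
  obtain ⟨s, hs, h⟩ := D.trans l m
  exact ⟨s, hs, by rw [D.z_conj hs, D.sg_eq' hs h]⟩

theorem le_S0 (o : ι) : o2 (centralizer {z o}) ≤ S0 (S : Subgroup G) Z := fun _ hw =>
  D.inf_le_S0 (o := o) (mem_inf.2 ⟨hw, D.le_S o hw⟩)

/-- `O₂(C_G(z o))` commutes with `x l`, `l ≠ o`, on `Ω₁Z(Q)` -/
theorem comm {o l : ι} (hl : l ≠ o) {w v : G} (hw : w ∈ o2 (centralizer ({z o} : Set G))) (hv : v ∈ zc Q) :
    w * (x l * v * (x l)⁻¹) * w⁻¹ = x l * (w * v * w⁻¹) * (x l)⁻¹ :=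
  D.comm_x' hw (D.le_S o hw) hl hv

end DatD

end Cfsg.Agent.Omega.IId.ThmCD
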