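import Cfsg.Agent.Omega.IId.ThmCD.Data

/-!
# THEOREM C with `D`, `q = 2` (bb OMEGA 19448): (A1) and (A3)

`DatD.mem_S_of` : an element of `O₂(C_G(z o))` centralising all `z l` lies in `S`.
`DatD.chain` : an element `u` of `O₂(C_G(z o))` which normalises `F_l = Z l ∩ Ω₁Z(S⁰)` for all `l ≠ o` lies in `S`.
-/

set_option autoImplicit false
set_option linter.unusedSectionVars false

namespace Cfsg.Agent.Omega.IId.ThmCD

open Subgroup Cfsg Cfsg.Agent.MinSimple.VModule Cfsg.Agent.Omega.ThmC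
open Cfsg.Agent.ZN (zc o2)
open Cfsg.Agent.Omega.IITwo.Count (conj_mem conj_mem' mem_norm)

universe u

variable {G : Type u} [Group G]

/-- a 2-group normalised by a Sylow 2-subgroup lies in it. -/
theorem le_syl (S : Sylow 2 G) {X : Subgroup G} (hX : IsPGroup 2 X)
    (hn : (S : Subgroup G) ≤ normalizer (X : Set G)) : X ≤ (S : Subgroup G) := by
  have h : IsPGroup 2 ↥((S : Subgroup G) ⊔ X) := S.2.to_sup_of_normal_right' hX hn
  exact le_sup_right.trans (S.3 h le_sup_left).le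

/-- `C_G(z l : l ∈ Φ)`. -/
def CS {ι : Type} (z : ι → G) (Φ : Set ι) : Subgroup G := centralizer (z '' Φ)

theorem mem_CS {ι : Type} {z : ι → G} {Φ : Set ι} {g : G} : g ∈ CS z Φ ↔ ∀ l ∈ Φ, g * z l = z l * g := by
  rw [CS, mem_centralizer_iff]
  constructor
  · intro h l hl
    exact (h _ ⟨l, hl, rfl⟩).symm
  · rintro h _ ⟨l, hl, rfl⟩
    exact (h l hl).symm

theorem CS_le {ι : Type} {z : ι → G} {Φ : Set ι} {o : ι} (ho : o ∈ Φ) : CS z Φ ≤ centralizer ({z o} : Set G) :=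
  centralizer_le (Set.singleton_subset_iff.2 ⟨o, ho, rfl⟩)

/-- `O₂(C(z o)) ∩ C_G(z l : l ∈ Φ) ≤ O₂(C_G(z l : l ∈ Φ))` for `o ∈ Φ`. -/
theorem WW_inf_le {ι : Type} {z : ι → G} {Φ : Set ι} {o : ι} (ho : o ∈ Φ) :
    WW (z o) ⊓ CS z Φ ≤ o2 (CS z Φ) := by
  refine le_o2 inf_le_right ((WW_two (z o)).to_le inf_le_left) fun g hg => ?_
  have h1 : g ∈ normalizer (WW (z o) : Set G) := le_nor_WW _ (CS_le ho hg)
  have h2 : g ∈ normalizer (CS z Φ : Set G) := le_normalizer hg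
  exact Half.le_normalizer_inf (K := zpowers g) (zpowers_le.2 h1) (zpowers_le.2 h2) (mem_zpowers g)

namespace DatD

variable {S : Sylow 2 G} {Q : Subgroup G} {ι : Type} {Z : ι → Subgroup G} {x z : ι → G}

section
variable [Finite G] (D : DatD S Q Z x z)
include D

/-- elements of `S` which stabilise `Φ` normalise `C_G(z l : l ∈ Φ)`. -/
theorem nor_CS {Φ : Set ι} {s : G} (hs : s ∈ (S : Subgroup G)) (h : ∀ l ∈ Φ, D.sg s⁻¹ l ∈ Φ) :
    s ∈ normalizer (CS z Φ : Set G) := by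
  refine mem_norm fun g hg => ?_
  rw [mem_CS] at hg ⊢
  intro l hl
  have h1 := hg _ (h l hl)
  have h2 : s * z (D.sg s⁻¹ l) * s⁻¹ = z l := by
    rw [D.z_conj hs, ← D.sg_mul hs (inv_mem hs), mul_inv_cancel, D.sg_one]
  rw [← h2]
  calc s * g * s⁻¹ * (s * z (D.sg s⁻¹ l) * s⁻¹) = s * (g * z (D.sg s⁻¹ l)) * s⁻¹ := by group
    _ = s * (z (D.sg s⁻¹ l) * g) * s⁻¹ := by rw [h1]
    _ = _ := by group

/-- `O₂(C_G(z l : all l)) ≤ S`. -/
theorem o2_CS_le : o2 (CS z Set.univ) ≤ (S : Subgroup G) :=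
  le_syl S (o2_isPGroup _) fun _ hs =>
    Cfsg.Agent.ZN.normalizer_le_normalizer_o2 _ (D.nor_CS hs fun _ _ => Set.mem_univ _)

/-- **(A1)** -/
theorem mem_S_of {o : ι} {w : G} (hw : w ∈ WW (z o)) (h : ∀ l, w * z l = z l * w) : w ∈ (S : Subgroup G) :=
  D.o2_CS_le (WW_inf_le (Set.mem_univ o) (mem_inf.2 ⟨hw, mem_CS.2 fun l _ => h l⟩))

/-- **(A3)** -/
theorem chain {o : ι} {u : G} (hu : u ∈ WW (z o))
    (hn : ∀ l, l ≠ o → u ∈ normalizer (Z l ⊓ zc (S0 (S : Subgroup G) Z) : Subgroup G)) :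
    u ∈ (S : Subgroup G) := by
  set R0 : Subgroup G := (S : Subgroup G) ⊓ centralizer ({z o} : Set G) with hR0
  let Pr : Subgroup G → Prop := fun R => R0 ≤ R ∧ R ≤ (S : Subgroup G) ∧
    ∀ r ∈ R, u * z (D.sg r o) = z (D.sg r o) * u
  have h0 : Pr R0 := by
    refine ⟨le_rfl, inf_le_left, fun r hr => ?_⟩
    rw [(D.sg_iff_z hr.1).2 hr.2]
    exact mem_cs.1 (WW_le _ hu)
  obtain ⟨R, ⟨hRm, hmax⟩⟩ := (Set.toFinite {R | Pr R}).exists_maximal ⟨R0, h0⟩
  obtain ⟨hR1, hR2, hR3⟩ : Pr R := hRm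
  -- it suffices that `S ≤ R`
  have key : (S : Subgroup G) ≤ R := by
    by_contra hne
    obtain ⟨n, hnS, hnR, hnn⟩ := exists_normalizer S.2 hR2 hne
    have hR' : Pr ((S : Subgroup G) ⊓ normalizer (R : Set G)) := by
      refine ⟨le_inf inf_le_left (hR1.trans le_normalizer), inf_le_left, ?_⟩
      rintro r' ⟨hr'S, hr'n⟩
      set l := D.sg r' o with hl
      by_cases hex : ∃ r ∈ R, D.sg r o = l
      · obtain ⟨r, hr, hrl⟩ := hex
        rw [← hrl]
        exact hR3 r hr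
      push Not at hex
      have hlo : l ≠ o := fun h => hex 1 (one_mem _) (by rw [D.sg_one, h])
      set Φ : Set ι := {m | ∃ r ∈ R, D.sg r o = m} with hΦ
      have hoΦ : o ∈ Φ := ⟨1, one_mem _, D.sg_one o⟩
      -- `u ∈ O₂(C_G(z m : m ∈ Φ))`
      have hu2 : u ∈ o2 (CS z Φ) := by
        refine WW_inf_le hoΦ (mem_inf.2 ⟨hu, mem_CS.2 ?_⟩)
        rintro m ⟨r, hr, rfl⟩
        exact hR3 r hr
      -- `T_l ≤ R`
      have hT : ∀ t ∈ (S : Subgroup G), D.sg t l = l → t ∈ R := by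
        intro t ht htl
        have h1 : r'⁻¹ * t * r' ∈ (S : Subgroup G) := mul_mem (mul_mem (inv_mem hr'S) ht) hr'S
        have h2 : D.sg (r'⁻¹ * t * r') o = o := by
          rw [D.sg_mul (mul_mem (inv_mem hr'S) ht) hr'S, D.sg_mul (inv_mem hr'S) ht, ← hl, htl,
            D.sg_inv hr'S rfl]
        have h3 : r'⁻¹ * t * r' ∈ R := hR1 (mem_inf.2 ⟨h1, (D.sg_iff_z h1).1 h2⟩)
        have h4 := conj_mem hr'n h3
        have e : r' * (r'⁻¹ * t * r') * r'⁻¹ = t := by group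
        rwa [e] at h4
      set F : Subgroup G := Z l ⊓ zc (S0 (S : Subgroup G) Z) with hF
      set T : Subgroup G := (S : Subgroup G) ⊓ centralizer ({z l} : Set G) with hTd
      have hT' : ∀ t ∈ T, D.sg t l = l := fun t ht => (D.sg_iff_z ht.1).2 ht.2
      set A : Subgroup G := o2 (CS z Φ) ⊓ normalizer (F : Set G) with hA
      have hA2 : IsPGroup 2 A := (o2_isPGroup _).to_le inf_le_left
      have hTF : T ≤ normalizer (F : Set G) := by
        intro t ht
        refine Half.le_normalizer_inf (K := zpowers t) (zpowers_le.2 ?_) (zpowers_le.2 ?_) (mem_zpowers t)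
        · exact (D.mem_nor_iff ht.1).2 (hT' t ht)
        · exact D.S_le_nor_E ht.1
      have hTA : T ≤ normalizer (A : Set G) := by
        intro t ht
        refine Half.le_normalizer_inf (K := zpowers t) (zpowers_le.2 ?_) (zpowers_le.2 ?_) (mem_zpowers t)
        · refine Cfsg.Agent.ZN.normalizer_le_normalizer_o2 _ (D.nor_CS ht.1 ?_)
          rintro m ⟨r, hr, rfl⟩
          have htR := hT t ht.1 (hT' t ht)
          exact ⟨t⁻¹ * r, mul_mem (inv_mem htR) hr, D.sg_mul (inv_mem ht.1) (hR2 hr) o⟩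
        · exact le_normalizer (hTF ht)
      have hP : IsPGroup 2 ↥(T ⊔ A) := (S.2.to_le inf_le_left : IsPGroup 2 T).to_sup_of_normal_right' hA2 hTA
      have hFp : IsPGroup 2 F := by
        intro v
        refine ⟨1, Subtype.ext ?_⟩
        have := D.sq v.2.1
        simpa [pow_two] using this
      have hFne : F ≠ ⊥ := by
        intro h
        have h1 : z l ∈ F := mem_inf.2 ⟨D.zm l, D.z_mem_E l⟩
        rw [h, mem_bot] at h1
        exact D.z1 l h1
      obtain ⟨v, hv, hv1, hv2⟩ := Half.exists_fixed hFp hFne hP (sup_le hTF inf_le_right)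
      have hvz : v = z l := by
        refine (D.zfix l v hv.1 fun s hs h => ?_).resolve_left hv1
        refine hv2 s (mem_sup_left (mem_inf.2 ⟨hs, (D.sg_iff_z hs).1 (D.sg_eq' hs h)⟩))
      have h5 := hv2 u (mem_sup_right (mem_inf.2 ⟨hu2, hn l hlo⟩))
      rw [hvz] at h5
      exact mul_inv_eq_iff_eq_mul.1 h5
    have h6 := hmax hR' (le_inf hR2 le_normalizer)
    exact hnR (h6 (mem_inf.2 ⟨hnS, hnn⟩))
  refine D.mem_S_of hu fun l => ?_
  obtain ⟨s, hs, hsl⟩ := D.trans o l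
  have := hR3 s (key hs)
  rwa [D.sg_eq' hs hsl] at this

end

end DatD

end Cfsg.Agent.Omega.IId.ThmCD
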