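import Cfsg.Agent.Omega.IId.ThmCD.Count

/-!
# THEOREM C with `D`, `q ≥ 4` (bb OMEGA #20115 (4), helper914): the count with normalisers

`S` a Sylow 2-subgroup permutes the subgroups `Z l` (`l : ι`) transitively, `A ≤ O₂(N_G(Z o))` normalises all `Z l`,
`l ∉ J`, `o ∉ J`, `|J| ∈ {1, 2}`.

* `countN` : `|A : N_A(Z j)| ≥ 4 ^ |J|` is impossible for some `j ∈ J`.
* `countN_one` : `J = {a}`.
* `le_sylow_of_all` : a 2-subgroup of `G` which is normal in the intersection of all `N_G(Z l)` lies in `S`.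

The proof is helper653's / helper131's `count` with `N_G(Z l)` instead of `C_G(z l)`.
-/

set_option autoImplicit false

namespace Cfsg.Agent.Omega.IId.ThmCD

open Subgroup Cfsg Cfsg.Agent.MinSimple.VModule
open Cfsg.Agent.ZN (zc o2)

universe u

variable {G : Type u} [Group G]

/-- the intersection of the normalisers of the `Z l`, `l ∈ X` -/
def NZ {ι : Type} (Z : ι → Subgroup G) (X : Set ι) : Subgroup G := ⨅ l ∈ X, normalizer (Z l : Set G)

theorem mem_NZ {ι : Type} {Z : ι → Subgroup G} {X : Set ι} {g : G} :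
    g ∈ NZ Z X ↔ ∀ l ∈ X, g ∈ normalizer (Z l : Set G) := by
  rw [NZ, mem_iInf]
  simp only [mem_iInf]

theorem NZ_anti {ι : Type} {Z : ι → Subgroup G} {X Y : Set ι} (h : X ⊆ Y) : NZ Z Y ≤ NZ Z X :=
  fun _ hg => mem_NZ.2 fun l hl => mem_NZ.1 hg l (h hl)

theorem cv_eq_of_mem {s : G} {A : Subgroup G} (h : s ∈ normalizer (A : Set G)) : cv s A = A := by
  ext x
  rw [mem_cv]
  have h1 := mem_normalizer_iff.1 h (s⁻¹ * x * s)
  have e : s * (s⁻¹ * x * s) * s⁻¹ = x := by group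
  rwa [e] at h1

theorem mem_of_cv_eq {s : G} {A : Subgroup G} (h : cv s A = A) : s ∈ normalizer (A : Set G) := by
  rw [mem_normalizer_iff]
  intro x
  have h1 : s * x * s⁻¹ ∈ cv s A ↔ x ∈ A := by
    rw [mem_cv]
    have e : s⁻¹ * (s * x * s⁻¹) * s = x := by group
    rw [e]
  rw [h] at h1
  exact h1.symm

theorem cv_cv (s t : G) (A : Subgroup G) : cv s (cv t A) = cv (s * t) A := by
  ext x
  rw [mem_cv, mem_cv, mem_cv]
  have e : t⁻¹ * (s⁻¹ * x * s) * t = (s * t)⁻¹ * x * (s * t) := by group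
  rw [e]

theorem cv_one (A : Subgroup G) : cv 1 A = A := by
  ext x
  rw [mem_cv]
  simp

theorem cv_normalizer (s : G) (B : Subgroup G) :
    cv s (normalizer (B : Set G)) = normalizer (cv s B : Set G) := by
  ext x
  constructor
  · intro hx
    rw [mem_cv] at hx
    apply mem_of_cv_eq
    have h1 := cv_eq_of_mem hx
    calc cv x (cv s B) = cv s (cv (s⁻¹ * x * s) B) := by
          rw [cv_cv, cv_cv]
          congr 1
          group
      _ = cv s B := by rw [h1]
  · intro hx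
    rw [mem_cv]
    apply mem_of_cv_eq
    have h1 := cv_eq_of_mem hx
    calc cv (s⁻¹ * x * s) B = cv s⁻¹ (cv x (cv s B)) := by rw [cv_cv, cv_cv]
      _ = B := by rw [h1, cv_cv, inv_mul_cancel, cv_one]

theorem cv_o2_le (s : G) (C : Subgroup G) : cv s (o2 C) ≤ o2 (cv s C) := by
  refine le_o2 (cv_mono (o2_le _)) (isPGroup_cv (o2_isPGroup _)) ?_
  intro x hx
  rw [mem_cv] at hx
  have h1 := le_normalizer_o2 _ hx
  rw [mem_normalizer_iff] at h1 ⊢
  intro y
  rw [mem_cv, mem_cv]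
  have h2 := h1 (s⁻¹ * y * s)
  have e : s⁻¹ * x * s * (s⁻¹ * y * s) * (s⁻¹ * x * s)⁻¹ = s⁻¹ * (x * y * x⁻¹) * s := by group
  rwa [e] at h2

/-- a normal 2-subgroup of the intersection of all `N_G(Z l)` lies in `S` -/
theorem le_sylow_of_all [Finite G] (S : Sylow 2 G) {ι : Type} (Z : ι → Subgroup G)
    (hS : ∀ s ∈ (S : Subgroup G), ∀ l, ∃ m, cv s (Z l) = Z m) {R : Subgroup G} (hR : IsPGroup 2 R)
    (hRN : R ≤ NZ Z Set.univ) (hn : NZ Z Set.univ ≤ normalizer (R : Set G)) : R ≤ S := by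
  have hSz : (S : Subgroup G) ≤ normalizer (NZ Z Set.univ : Set G) := by
    have key : ∀ s ∈ (S : Subgroup G), cv s (NZ Z Set.univ) ≤ NZ Z Set.univ := by
      intro s hs x hx
      rw [mem_cv] at hx
      refine mem_NZ.2 fun l _ => ?_
      obtain ⟨m, hm⟩ := hS s⁻¹ (inv_mem hs) l
      have h1 : Z l = cv s (Z m) := by rw [← hm, cv_cv, mul_inv_cancel, cv_one]
      rw [h1, ← cv_normalizer, mem_cv]
      exact mem_NZ.1 hx m (Set.mem_univ _)
    intro s hs
    apply mem_of_cv_eq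
    refine le_antisymm (key s hs) ?_
    intro x hx
    rw [mem_cv]
    have h1 := key s⁻¹ (inv_mem hs) (x := s⁻¹ * x * s) (by
      rw [mem_cv]
      have e : s⁻¹⁻¹ * (s⁻¹ * x * s) * s⁻¹ = x := by group
      rwa [e])
    exact h1
  have h1 : R ≤ o2 (NZ Z Set.univ) := le_o2 hRN hR hn
  exact h1.trans (le_sylow_of_normalized S (o2_isPGroup _) fun s hs => nor_o2 (hSz hs))

/-- **The count with normalisers.** -/
theorem countN [Finite G] (S : Sylow 2 G) {ι : Type} [Finite ι] [DecidableEq ι] (Z : ι → Subgroup G)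
    (hinj : Function.Injective Z) (hS : ∀ s ∈ (S : Subgroup G), ∀ l, ∃ m, cv s (Z l) = Z m)
    (htr : ∀ l m, ∃ s ∈ (S : Subgroup G), cv s (Z l) = Z m) (o : ι) (A : Subgroup G) (J : Finset ι)
    (ho : o ∉ J) (hJ : J.card = 1 ∨ J.card = 2) (hA : A ≤ o2 (normalizer (Z o : Set G)))
    (hAl : ∀ l, l ∉ J → A ≤ normalizer (Z l : Set G))
    (hi : ∀ j ∈ J, 4 ^ J.card ≤ (normalizer (Z j : Set G)).relIndex A) : False := by
  classical
  have : Fact (Nat.Prime 2) := ⟨Nat.prime_two⟩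
  -- the action of `S` on `ι`
  choose f hf using fun (s : (S : Subgroup G)) (l : ι) => hS s s.2 l
  let act : MulAction (S : Subgroup G) ι :=
    { smul := f
      one_smul := fun l => by
        apply hinj
        change Z (f 1 l) = Z l
        rw [← hf]
        exact cv_one _
      mul_smul := fun s t l => by
        apply hinj
        change Z (f (s * t) l) = Z (f s (f t l))
        rw [← hf, ← hf, ← hf, cv_cv]
        rfl }
  have hz : ∀ (s : (S : Subgroup G)) (l : ι), cv (s : G) (Z l) = Z (s • l) := hf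
  have htr' : ∀ a b : ι, ∃ s : (S : Subgroup G), s • a = b := by
    intro a b
    obtain ⟨s, hs, e⟩ := htr a b
    refine ⟨⟨s, hs⟩, hinj ?_⟩
    rw [← hz, ← e]
  -- `J = {j, j'}`
  obtain ⟨j, j', hjJ, hjJ', hJs⟩ : ∃ j j' : ι, j ∈ J ∧ j' ∈ J ∧ ∀ i ∈ J, i = j ∨ i = j' := by
    rcases hJ with h | h
    · obtain ⟨j, rfl⟩ := Finset.card_eq_one.1 h
      exact ⟨j, j, by simp, by simp, by simp⟩
    · obtain ⟨j, j', _, rfl⟩ := Finset.card_eq_two.1 h
      exact ⟨j, j', by simp, by simp, by simp⟩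
  obtain ⟨Γ, ⟨s₀, hs₀⟩, hΓ, hcard⟩ := levels S.2 htr' (o := o) (j := j) (j' := j')
    (fun h => ho (h ▸ hjJ)) (fun h => ho (h ▸ hjJ'))
  set JJ : Set ι := {i : ι | ∃ s : (S : Subgroup G), s • o ∈ Γ ∧ (i = s • j ∨ i = s • j')} with hJJ
  -- the groups
  set CΓ : Subgroup G := NZ Z Γ with hCΓ
  set R : Subgroup G := o2 CΓ with hR
  let RT : Set ι → Subgroup G := fun T => R ⊓ NZ Z Tᶜ
  have hRT : ∀ {T T' : Set ι}, T ⊆ T' → RT T ≤ RT T' := fun {T T'} h =>
    inf_le_inf_left _ (NZ_anti (Set.compl_subset_compl.2 h))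
  have hRTc : ∀ {T : Set ι} {b : ι}, b ∉ T → RT T ≤ normalizer (Z b : Set G) := fun {T b} hb x hx =>
    mem_NZ.1 (mem_inf.1 hx).2 b hb
  -- the conjugates of `A`
  have hAs : ∀ s : (S : Subgroup G), s • o ∈ Γ → ∀ T : Set ι, (∀ i ∈ J, s • i ∈ T) → cv (s : G) A ≤ RT T := by
    intro s hs T hT
    have hcen : ∀ l, (∀ i ∈ J, l ≠ s • i) → cv (s : G) A ≤ normalizer (Z l : Set G) := by
      intro l hl
      have h1 : s⁻¹ • l ∉ J := fun h => hl _ h (smul_inv_smul s l).symm
      have h2 := cv_mono (s := (s : G)) (hAl _ h1)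
      rw [cv_normalizer, hz, smul_inv_smul] at h2
      exact h2
    have hcen' : ∀ X : Set ι, (∀ l ∈ X, ∀ i ∈ J, l ≠ s • i) → cv (s : G) A ≤ NZ Z X := by
      intro X hX c hc
      exact mem_NZ.2 fun l hl => hcen l (hX l hl) hc
    have hΓs : cv (s : G) A ≤ CΓ := hcen' Γ fun l hl i hi e => by
      have h1 := hΓ s hs
      rcases hJs i hi with rfl | rfl
      · exact h1.1 (e ▸ hl)
      · exact h1.2 (e ▸ hl)
    have hCle : CΓ ≤ normalizer (Z (s • o) : Set G) := fun x hx => mem_NZ.1 hx _ hs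
    have h3 : cv (s : G) A ≤ R := by
      have h4 : cv (s : G) A ≤ o2 (normalizer (Z (s • o) : Set G)) := by
        rw [← hz, ← cv_normalizer]
        exact (cv_mono hA).trans (cv_o2_le _ _)
      have h5 : o2 (normalizer (Z (s • o) : Set G)) ⊓ CΓ ≤ R := by
        refine le_o2 inf_le_right ((o2_isPGroup _).to_le inf_le_left) fun x hx => ?_
        exact nor_inf (le_normalizer_o2 _ (hCle hx)) (le_normalizer hx)
      exact (le_inf h4 hΓs).trans h5
    refine le_inf h3 (hcen' _ fun l hl i hi e => hl (e ▸ hT i hi))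
  have hidx : ∀ s : (S : Subgroup G), ∀ i ∈ J,
      4 ^ J.card ≤ (normalizer (Z (s • i) : Set G)).relIndex (cv (s : G) A) := by
    intro s i hi'
    rw [← hz, ← cv_normalizer, cv_relIndex]
    exact hi i hi'
  have hne : ∀ A B : Subgroup G, A.relIndex B ≠ 0 := fun A B => Subgroup.index_ne_zero_of_finite
  -- the chain
  have hchain : ∃ T : Finset ι, JJ ⊆ ↑T ∧ 4 ^ T.card ≤ (RT ∅).relIndex (RT ↑T) := by
    set P : Finset ι → Prop := fun T => 4 ^ T.card ≤ (RT ∅).relIndex (RT ↑T) with hP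
    have hfin : {T : Finset ι | P T}.Finite := Set.toFinite _
    have hnon : {T : Finset ι | P T}.Nonempty := ⟨∅, by
      change 4 ^ (∅ : Finset ι).card ≤ _
      rw [Finset.card_empty, pow_zero, Finset.coe_empty, relIndex_self]⟩
    obtain ⟨T, hT, hmax⟩ := hfin.exists_maximalFor (fun T : Finset ι => T.card) _ hnon
    refine ⟨T, ?_, hT⟩
    by_contra hcon
    obtain ⟨b, hb, hbT⟩ := Set.not_subset.1 hcon
    obtain ⟨s, hs, hbs⟩ := hb
    obtain ⟨i, hiJ, rfl⟩ : ∃ i ∈ J, b = s • i := by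
      rcases hbs with h | h
      · exact ⟨j, hjJ, h⟩
      · exact ⟨j', hjJ', h⟩
    set T' : Finset ι := T ∪ J.image (fun i => s • i) with hT'
    have hTT : (↑T : Set ι) ⊆ ↑T' := by
      rw [hT', Finset.coe_union]
      exact Set.subset_union_left
    have hc1 : T'.card ≤ T.card + J.card :=
      (Finset.card_union_le _ _).trans (Nat.add_le_add_left Finset.card_image_le _)
    have hc2 : T.card < T'.card := by
      refine Finset.card_lt_card ⟨Finset.coe_subset.1 hTT, fun h => hbT ?_⟩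
      have : s • i ∈ T' := by
        rw [hT', Finset.mem_union]
        exact Or.inr (Finset.mem_image.2 ⟨i, hiJ, rfl⟩)
      exact h this
    have hPT' : P T' := by
      change 4 ^ T'.card ≤ (RT ∅).relIndex (RT ↑T')
      have e1 : (RT ∅).relIndex (RT ↑T) * (RT ↑T).relIndex (RT ↑T') = (RT ∅).relIndex (RT ↑T') :=
        relIndex_mul_relIndex _ _ _ (hRT (Set.empty_subset _)) (hRT hTT)
      have e2 : 4 ^ J.card ≤ (RT ↑T).relIndex (RT ↑T') := by
        have h1 : cv (s : G) A ≤ RT ↑T' := hAs s hs _ fun i hi => by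
          rw [hT', Finset.coe_union]
          exact Or.inr (Finset.mem_coe.2 (Finset.mem_image.2 ⟨i, hi, rfl⟩))
        have h2 : RT ↑T ≤ normalizer (Z (s • i) : Set G) := hRTc hbT
        calc 4 ^ J.card ≤ (normalizer (Z (s • i) : Set G)).relIndex (cv (s : G) A) := hidx s i hiJ
          _ ≤ (normalizer (Z (s • i) : Set G)).relIndex (RT ↑T') := relIndex_le_of_le_right h1 (hne _ _)
          _ ≤ (RT ↑T).relIndex (RT ↑T') := relIndex_le_of_le_left h2 (hne _ _)
      calc 4 ^ T'.card ≤ 4 ^ (T.card + J.card) := Nat.pow_le_pow_right (by norm_num) hc1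
        _ = 4 ^ T.card * 4 ^ J.card := pow_add _ _ _
        _ ≤ (RT ∅).relIndex (RT ↑T) * (RT ↑T).relIndex (RT ↑T') := Nat.mul_le_mul hT e2
        _ = _ := e1
    have h1 : T'.card ≤ T.card := hmax hPT' hc2.le
    omega
  obtain ⟨T, hJT, hT⟩ := hchain
  -- `2 ^ k ≤ |R : R ∩ N(all Z)|`
  set R₀ : Subgroup G := R ⊓ NZ Z Set.univ with hR₀
  have hR₀e : RT ∅ = R₀ := by
    change R ⊓ NZ Z (∅ : Set ι)ᶜ = _
    rw [Set.compl_empty]
  have h2k : 2 ^ Nat.card ι ≤ R₀.relIndex R := by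
    have h1 : JJ.ncard ≤ T.card := by
      rw [← Set.ncard_coe_finset]
      exact Set.ncard_le_ncard hJT (Set.toFinite _)
    calc 2 ^ Nat.card ι ≤ 2 ^ (2 * T.card) := Nat.pow_le_pow_right (by norm_num) (hcard.trans (by omega))
      _ = 4 ^ T.card := by rw [pow_mul]; norm_num
      _ ≤ (RT ∅).relIndex (RT ↑T) := hT
      _ ≤ (RT ∅).relIndex R := relIndex_le_of_le_right inf_le_left (hne _ _)
      _ = R₀.relIndex R := by rw [hR₀e]
  -- `R₀ ≤ S`
  have hCC : NZ Z Set.univ ≤ CΓ := NZ_anti (Set.subset_univ _)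
  have hR₀S : R₀ ≤ S := by
    refine le_sylow_of_all S Z hS ((o2_isPGroup _).to_le inf_le_left) inf_le_right fun x hx => ?_
    exact nor_inf (le_normalizer_o2 _ (hCC hx)) (le_normalizer hx)
  -- the end
  set S₀ : Subgroup G := (S : Subgroup G) ⊓ NZ Z Set.univ with hS₀
  have hRS : R ⊓ S₀ = R₀ := by
    apply le_antisymm
    · exact inf_le_inf_left _ inf_le_right
    · exact le_inf inf_le_left (le_inf hR₀S inf_le_right)
  have h3 : R₀.relIndex R = S₀.relIndex R := by rw [← hRS, inf_relIndex_left]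
  have h4 : S₀.relIndex R ≤ S₀.relIndex (S : Subgroup G) := by
    have h5 : S₀ ≤ normalizer (R : Set G) := (inf_le_right.trans hCC).trans (le_normalizer_o2 _)
    have h6 : IsPGroup 2 ↥(S₀ ⊔ R) := (S.2.to_le inf_le_left : IsPGroup 2 S₀).to_sup_of_normal_right' (o2_isPGroup _) h5
    have h7 := card_le_sylow S h6
    have h8 : Nat.card S₀ * S₀.relIndex (S₀ ⊔ R) = Nat.card ↥(S₀ ⊔ R) := card_mul_relIndex_of_le le_sup_left
    have h9 : Nat.card S₀ * S₀.relIndex (S : Subgroup G) = Nat.card (S : Subgroup G) :=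
      card_mul_relIndex_of_le inf_le_left
    have h10 : S₀.relIndex R ≤ S₀.relIndex (S₀ ⊔ R) := relIndex_le_of_le_right le_sup_right (hne _ _)
    refine h10.trans (Nat.le_of_mul_le_mul_left ?_ (Nat.card_pos (α := S₀)))
    rw [h8, h9]
    exact h7
  have h5 : S₀.relIndex (S : Subgroup G) ∣ (Nat.card ι).factorial := by
    have h6 : S₀.subgroupOf (S : Subgroup G) = (MulAction.toPermHom (S : Subgroup G) ι).ker := by
      ext s
      rw [mem_subgroupOf, MonoidHom.mem_ker, hS₀, mem_inf]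
      constructor
      · rintro ⟨-, h⟩
        ext l
        apply hinj
        change Z (s • l) = Z l
        rw [← hz]
        exact cv_eq_of_mem (mem_NZ.1 h l (Set.mem_univ l))
      · intro h
        refine ⟨s.2, mem_NZ.2 fun l _ => mem_of_cv_eq ?_⟩
        have h7 : s • l = l := congrArg (fun σ : Equiv.Perm ι => σ l) h
        rw [hz, h7]
    rw [relIndex, h6, index_ker, ← Nat.card_perm]
    exact card_subgroup_dvd_card _
  obtain ⟨a, ha⟩ : ∃ a, S₀.relIndex (S : Subgroup G) = 2 ^ a := (S.2 : IsPGroup 2 (S : Subgroup G)).index _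
  have hk : Nat.card ι ≠ 0 := by
    have : Nonempty ι := ⟨o⟩
    exact Nat.card_pos.ne'
  have h6 : Nat.card ι ≤ a := by
    have h7 : 2 ^ Nat.card ι ≤ 2 ^ a := by
      rw [← ha]
      exact (h2k.trans h3.le).trans h4
    exact (Nat.pow_le_pow_iff_right (by norm_num)).1 h7
  have h7 : a ≤ padicValNat 2 (Nat.card ι).factorial := by
    rw [← padicValNat_dvd_iff_le (Nat.factorial_ne_zero _), ← ha]
    exact h5
  have h8 := sub_one_mul_padicValNat_factorial_lt_of_ne_zero 2 hk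
  omega

/-- **the count with `J = {a}`** -/
theorem countN_one [Finite G] (S : Sylow 2 G) {ι : Type} [Finite ι] [DecidableEq ι] (Z : ι → Subgroup G)
    (hinj : Function.Injective Z) (hS : ∀ s ∈ (S : Subgroup G), ∀ l, ∃ m, cv s (Z l) = Z m)
    (htr : ∀ l m, ∃ s ∈ (S : Subgroup G), cv s (Z l) = Z m) {o a : ι} (hoa : o ≠ a) {A : Subgroup G}
    (hA : A ≤ o2 (normalizer (Z o : Set G))) (hAl : ∀ l, l ≠ a → A ≤ normalizer (Z l : Set G)) :
    (normalizer (Z a : Set G)).relIndex A < 4 := by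
  by_contra h
  push Not at h
  refine countN S Z hinj hS htr o A {a} (by simpa using hoa) (Or.inl (Finset.card_singleton a)) hA
    (fun l hl => hAl l (by simpa using hl)) fun j hj => ?_
  rw [Finset.mem_singleton] at hj
  rw [hj, Finset.card_singleton, pow_one]
  exact h

end Cfsg.Agent.Omega.IId.ThmCD
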