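import Cfsg.Agent.Omega.ThmC.TwoK

/-!
# THEOREM C for natural factors, `q = 2`, arbitrary `D = C_V(O²(P))` (bb OMEGA 19448): data and basics

`DatD S Q Z x z` : as `ThmC.Dat`, but `Ω₁Z(Q)` need not be the product of the `Z l`: the projection `x l + (x l)²`
of `Ω₁Z(Q)` has values in `Z l`.  (`D⁺ = C_{Ω₁Z(Q)}(x l : l)` is a complement of `∏ Z l`.)
-/

set_option autoImplicit false
set_option linter.unusedSectionVars false

namespace Cfsg.Agent.Omega.IId.ThmCD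

open Subgroup Cfsg Cfsg.Agent.MinSimple.VModule Cfsg.Agent.Omega.ThmC
open Cfsg.Agent.ZN (zc o2)
open Cfsg.Agent.Omega.IITwo.Count (conj_mem conj_mem' mem_norm)

universe u

variable {G : Type u} [Group G]

/-- The data. -/
structure DatD (S : Sylow 2 G) (Q : Subgroup G) {ι : Type} (Z : ι → Subgroup G) (x z : ι → G) :
    Prop where
  QS : Q ≤ S
  SQ : (S : Subgroup G) ≤ normalizer (Q : Set G)
  SC : (S : Subgroup G) ⊓ centralizer (zc Q : Set G) ≤ Q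
  CQ : centralizer (Q : Set G) ≤ Q
  xQ : ∀ l, x l ∈ normalizer (Q : Set G)
  le : ∀ l, Z l ≤ zc Q
  prj : ∀ l, ∀ v ∈ zc Q, pr (x l) v ∈ Z l
  nor : ∀ l, ∀ v ∈ Z l, x l * v * (x l)⁻¹ ∈ Z l
  three : ∀ l, ∀ v ∈ Z l,
    v * (x l * v * (x l)⁻¹) * (x l * (x l * v * (x l)⁻¹) * (x l)⁻¹) = 1
  triv : ∀ l m, l ≠ m → ∀ v ∈ Z m, x l * v * (x l)⁻¹ = v
  perm : ∀ s ∈ (S : Subgroup G), ∀ l, ∃ m, (∀ v ∈ Z l, s * v * s⁻¹ ∈ Z m) ∧
    ((∀ v ∈ zc Q, (s * x l * s⁻¹) * v * (s * x l * s⁻¹)⁻¹ = x m * v * (x m)⁻¹) ∨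
      (∀ v ∈ zc Q, (s * x l * s⁻¹) * v * (s * x l * s⁻¹)⁻¹ = (x m)⁻¹ * v * x m))
  trans : ∀ l m, ∃ s ∈ (S : Subgroup G), ∀ v ∈ Z l, s * v * s⁻¹ ∈ Z m
  zm : ∀ l, z l ∈ Z l
  z1 : ∀ l, z l ≠ 1
  zfix : ∀ l, ∀ v ∈ Z l, (∀ s ∈ (S : Subgroup G), (∀ w ∈ Z l, s * w * s⁻¹ ∈ Z l) →
    s * v * s⁻¹ = v) → v = 1 ∨ v = z l
  inv : ∀ l, ∃ a ∈ (S : Subgroup G),
    (∀ v ∈ zc Q, (a * x l * a⁻¹) * v * (a * x l * a⁻¹)⁻¹ = (x l)⁻¹ * v * x l) ∧
      ∀ m, m ≠ l → ∀ v ∈ zc Q, (a * x m * a⁻¹) * v * (a * x m * a⁻¹)⁻¹ = x m * v * (x m)⁻¹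

namespace DatD

variable {S : Sylow 2 G} {Q : Subgroup G} {ι : Type} {Z : ι → Subgroup G} {x z : ι → G}

section basics
variable (D : DatD S Q Z x z)
include D

theorem xN (l : ι) : x l ∈ normalizer (zc Q : Set G) := normalizer_le_normalizer_zc Q (D.xQ l)

theorem sq {l : ι} {v : G} (hv : v ∈ Z l) : v * v = 1 := by
  have := zc_sq Q v (D.le l hv)
  rwa [pow_two] at this

theorem pr_self {l : ι} {v : G} (hv : v ∈ Z l) : pr (x l) v = v := by
  have h := D.three l v hv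
  have h1 := D.nor l v hv
  have h2 := D.nor l _ h1
  unfold pr
  rw [mul_assoc] at h
  rw [← eq_inv_of_mul_eq_one_right h |>.symm]
  exact inv_eq_of_mul_eq_one_right (D.sq hv)

theorem pr_other {l m : ι} (h : l ≠ m) {v : G} (hv : v ∈ Z m) : pr (x l) v = 1 := by
  unfold pr
  rw [D.triv l m h v hv, D.triv l m h v hv, D.sq hv]

/-- `π l` on `Md Q`. -/
def pi (l : ι) : Md Q →+ Md Q :=
  Md.lft (pr (x l)) (fun _ hv => pr_mem (D.xN l) hv) (fun _ hv _ hw => pr_mul (D.xN l) hv hw)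

@[simp] theorem val_pi (l : ι) (a : Md Q) : (D.pi l a).val = pr (x l) a.val := rfl

theorem pi_self {l : ι} {a : Md Q} (ha : a.val ∈ Z l) : D.pi l a = a :=
  Md.ext (by rw [val_pi, D.pr_self ha])

theorem pi_other {l m : ι} (h : l ≠ m) {a : Md Q} (ha : a.val ∈ Z m) : D.pi l a = 0 :=
  Md.ext (by rw [val_pi, D.pr_other h ha, Md.val_zero])

theorem pi_mem (l : ι) (a : Md Q) : (D.pi l a).val ∈ Z l := D.prj l _ a.val_mem

theorem pi_eq_iff {l : ι} {a : Md Q} : D.pi l a = a ↔ a.val ∈ Z l :=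
  ⟨fun h => h ▸ D.pi_mem l a, D.pi_self⟩

theorem pi_idem (l : ι) (a : Md Q) : D.pi l (D.pi l a) = D.pi l a := D.pi_self (D.pi_mem l a)

theorem pi_orth {l m : ι} (h : l ≠ m) (a : Md Q) : D.pi l (D.pi m a) = 0 :=
  D.pi_other h (D.pi_mem m a)

theorem disjZ {l m : ι} (h : l ≠ m) {v : G} (hv : v ∈ Z l) (hw : v ∈ Z m) : v = 1 := by
  rw [← D.pr_self hv, D.pr_other h hw]

/-- the automorphism `x l` of `zc Q`. -/
def X (l : ι) : MulAut ↥(zc Q) := Md.cjE (D.xN l)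

@[simp] theorem val_X (l : ι) (a : Md Q) : (D.X l • a).val = x l * a.val * (x l)⁻¹ := rfl

theorem X_other {l m : ι} (h : l ≠ m) {a : Md Q} (ha : a.val ∈ Z m) : D.X l • a = a :=
  Md.ext (by rw [val_X, D.triv l m h _ ha])

theorem X_mem {l : ι} {a : Md Q} (ha : a.val ∈ Z l) : (D.X l • a).val ∈ Z l := D.nor l _ ha

theorem X_three {l : ι} {a : Md Q} (ha : a.val ∈ Z l) : a + D.X l • a + D.X l • D.X l • a = 0 :=
  Md.ext (D.three l _ ha)

theorem X_pi (l : ι) (a : Md Q) : D.X l • a + D.X l • D.X l • a = D.pi l a := rfl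

/-- the kernel of `π l` is centralised by `x l`. -/
theorem X_ker {l : ι} {a : Md Q} (h : D.pi l a = 0) : D.X l • a = a := by
  rw [← D.X_pi] at h
  have h1 := neg_eq_of_add_eq_zero_right h
  rw [Md.neg_eq] at h1
  exact (smul_left_cancel _ h1).symm

theorem X_cube' {l : ι} {a : Md Q} (ha : a.val ∈ Z l) : D.X l • D.X l • D.X l • a = a := by
  have h1 := D.X_three ha
  have h2 := D.X_three (D.X_mem ha)
  rw [add_assoc] at h1
  have h3 : D.X l • a + D.X l • D.X l • a = a := by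
    have := neg_eq_of_add_eq_zero_right h1
    rw [← this, Md.neg_eq]
  have h4 := neg_eq_of_add_eq_zero_right h2
  rw [Md.neg_eq, h3] at h4
  exact h4.symm

theorem X_cube (l : ι) (a : Md Q) : D.X l • D.X l • D.X l • a = a := by
  obtain ⟨w, hw⟩ : ∃ w, w = a + D.pi l a := ⟨_, rfl⟩
  have h1 : D.X l • w = w := D.X_ker (by rw [hw, map_add, D.pi_idem, Md.two])
  have h3 := D.X_cube' (D.pi_mem l a)
  have h2 : a = w + D.pi l a := by rw [hw, add_assoc, Md.two, add_zero]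
  generalize D.pi l a = b at h2 h3
  rw [h2, smul_add, smul_add, smul_add, h1, h1, h1, h3]

theorem X_comm (l m : ι) : D.X l * D.X m = D.X m * D.X l := by
  rcases eq_or_ne l m with rfl | hlm
  · rfl
  apply Md.ext_smul
  intro a
  obtain ⟨w, hw⟩ : ∃ w, w = a + D.pi l a + D.pi m a := ⟨_, rfl⟩
  have hl : D.X l • w = w := D.X_ker (by
    rw [hw, map_add, map_add, D.pi_idem, D.pi_orth hlm, Md.two, zero_add])
  have hm : D.X m • w = w := D.X_ker (by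
    rw [hw, map_add, map_add, D.pi_idem, D.pi_orth hlm.symm, add_zero, Md.two])
  have ha : a = w + D.pi l a + D.pi m a := by
    rw [hw]
    have e1 := Md.two (D.pi l a)
    have e2 := Md.two (D.pi m a)
    calc a = a + (D.pi l a + D.pi l a) + (D.pi m a + D.pi m a) := by rw [e1, e2, add_zero, add_zero]
      _ = _ := by abel
  obtain ⟨b, hb, hbl⟩ : ∃ b, b = D.pi l a ∧ b.val ∈ Z l := ⟨_, rfl, D.pi_mem l a⟩
  obtain ⟨c, hc, hcm⟩ : ∃ c, c = D.pi m a ∧ c.val ∈ Z m := ⟨_, rfl, D.pi_mem m a⟩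
  rw [← hb, ← hc] at ha
  rw [ha, mul_smul, mul_smul]
  simp only [smul_add]
  rw [hl, hm, D.X_other hlm.symm hbl, D.X_other hlm hcm, hl,
    D.X_other hlm (D.X_mem hcm), D.X_other hlm.symm (D.X_mem hbl)]

theorem x_cube (l : ι) {v : G} (hv : v ∈ zc Q) :
    x l * (x l * (x l * v * (x l)⁻¹) * (x l)⁻¹) * (x l)⁻¹ = v :=
  congrArg Md.val (D.X_cube l (Md.mk v hv))

/-! ### the action of `S` -/

theorem SN : (S : Subgroup G) ≤ normalizer (zc Q : Set G) :=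
  D.SQ.trans fun _ h => normalizer_le_normalizer_zc Q h

/-- the index of the factor `s (Z l) s⁻¹`. -/
noncomputable def sg (_ : DatD S Q Z x z) (s : G) (l : ι) : ι := by
  classical
  exact if h : ∃ m, (∀ v ∈ Z l, s * v * s⁻¹ ∈ Z m) ∧
      ((∀ v ∈ zc Q, (s * x l * s⁻¹) * v * (s * x l * s⁻¹)⁻¹ = x m * v * (x m)⁻¹) ∨
        (∀ v ∈ zc Q, (s * x l * s⁻¹) * v * (s * x l * s⁻¹)⁻¹ = (x m)⁻¹ * v * x m)) then h.choose else l

theorem sg_spec {s : G} (hs : s ∈ (S : Subgroup G)) (l : ι) :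
    (∀ v ∈ Z l, s * v * s⁻¹ ∈ Z (D.sg s l)) ∧
      ((∀ v ∈ zc Q, (s * x l * s⁻¹) * v * (s * x l * s⁻¹)⁻¹ = x (D.sg s l) * v * (x (D.sg s l))⁻¹) ∨
        (∀ v ∈ zc Q, (s * x l * s⁻¹) * v * (s * x l * s⁻¹)⁻¹ = (x (D.sg s l))⁻¹ * v * x (D.sg s l))) := by
  have h := D.perm s hs l
  have : D.sg s l = h.choose := dif_pos h
  rw [this]
  exact h.choose_spec

theorem sg_eq {s : G} (hs : s ∈ (S : Subgroup G)) {l m : ι} {v : G} (hv : v ∈ Z l) (h1 : v ≠ 1)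
    (h : s * v * s⁻¹ ∈ Z m) : D.sg s l = m := by
  by_contra hne
  have := D.disjZ hne ((D.sg_spec hs l).1 v hv) h
  exact h1 (by simpa using this)

theorem sg_eq' {s : G} (hs : s ∈ (S : Subgroup G)) {l m : ι} (h : ∀ v ∈ Z l, s * v * s⁻¹ ∈ Z m) :
    D.sg s l = m := D.sg_eq hs (D.zm l) (D.z1 l) (h _ (D.zm l))

theorem sg_mul {s t : G} (hs : s ∈ (S : Subgroup G)) (ht : t ∈ (S : Subgroup G)) (l : ι) :
    D.sg (s * t) l = D.sg s (D.sg t l) := by
  refine D.sg_eq' (mul_mem hs ht) fun v hv => ?_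
  have := (D.sg_spec hs _).1 _ ((D.sg_spec ht l).1 v hv)
  have h2 : s * t * v * (s * t)⁻¹ = s * (t * v * t⁻¹) * s⁻¹ := by group
  rwa [h2]

theorem sg_one (l : ι) : D.sg 1 l = l := D.sg_eq' (one_mem _) fun v hv => by simpa using hv

theorem sg_inv {s : G} (hs : s ∈ (S : Subgroup G)) {l m : ι} (h : D.sg s l = m) : D.sg s⁻¹ m = l := by
  rw [← h, ← D.sg_mul (inv_mem hs) hs, inv_mul_cancel, D.sg_one]

theorem sg_inv_mem {s : G} (hs : s ∈ (S : Subgroup G)) {l : ι} {v : G} (hv : v ∈ Z (D.sg s l)) :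
    s⁻¹ * v * s ∈ Z l := by
  have := (D.sg_spec (inv_mem hs) (D.sg s l)).1 v hv
  rwa [D.sg_inv hs rfl, inv_inv] at this

theorem mem_nor_iff [Finite G] {s : G} (hs : s ∈ (S : Subgroup G)) {l : ι} :
    s ∈ normalizer (Z l : Set G) ↔ D.sg s l = l := by
  constructor
  · intro h
    exact D.sg_eq' hs fun v hv => conj_mem h hv
  · intro h
    refine mem_norm fun v hv => ?_
    have := (D.sg_spec hs l).1 v hv
    rwa [h] at this

theorem mem_S0_iff [Finite G] {s : G} (hs : s ∈ (S : Subgroup G)) :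
    s ∈ S0 (S : Subgroup G) Z ↔ ∀ l, D.sg s l = l := by
  rw [mem_S0]
  exact ⟨fun h l => (D.mem_nor_iff hs).mp (h.2 l), fun h => ⟨hs, fun l => (D.mem_nor_iff hs).mpr (h l)⟩⟩

/-- `s π_l = π_{s l} s`. -/
theorem pr_conj {s : G} (hs : s ∈ (S : Subgroup G)) (l : ι) {v : G} (hv : v ∈ zc Q) :
    s * pr (x l) v * s⁻¹ = pr (x (D.sg s l)) (s * v * s⁻¹) := by
  have hw : s * v * s⁻¹ ∈ zc Q := conj_mem (D.SN hs) hv
  have e1 : s * pr (x l) v * s⁻¹ = pr (s * x l * s⁻¹) (s * v * s⁻¹) := by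
    unfold pr; group
  rw [e1]
  rcases (D.sg_spec hs l).2 with h | h
  · unfold pr
    rw [h _ hw, h _ (conj_mem (D.xN _) hw)]
  · unfold pr
    rw [h _ hw, h _ (conj_mem' (D.xN _) hw)]
    -- `x⁻¹ + x⁻² = x² + x`
    generalize D.sg s l = m
    generalize s * v * s⁻¹ = w at *
    have h1 : x m * (x m * w * (x m)⁻¹) * (x m)⁻¹ ∈ zc Q := conj_mem (D.xN m) (conj_mem (D.xN m) hw)
    have h2 : x m * w * (x m)⁻¹ ∈ zc Q := conj_mem (D.xN m) hw
    have e2 : (x m)⁻¹ * w * x m = x m * (x m * w * (x m)⁻¹) * (x m)⁻¹ := by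
      have h3 := D.x_cube m hw
      calc (x m)⁻¹ * w * x m =
          (x m)⁻¹ * (x m * (x m * (x m * w * (x m)⁻¹) * (x m)⁻¹) * (x m)⁻¹) * x m := by rw [h3]
        _ = _ := by group
    have e3 : (x m)⁻¹ * ((x m)⁻¹ * w * x m) * x m = x m * w * (x m)⁻¹ := by
      rw [e2]; group
    rw [e3, e2]
    exact zc_comm Q _ h1 _ h2

/-- `z_l` is fixed by `N_S(Z_l)`. -/
theorem z_fix [Finite G] {s : G} (hs : s ∈ (S : Subgroup G)) {l : ι} (h : D.sg s l = l) :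
    s * z l * s⁻¹ = z l := by
  have hV : IsPGroup 2 (Z l) := by
    intro v
    refine ⟨1, Subtype.ext ?_⟩
    have := D.sq v.2
    simpa [pow_two] using this
  have hne : Z l ≠ ⊥ := by
    intro h0
    have := D.zm l
    rw [h0, mem_bot] at this
    exact D.z1 l this
  obtain ⟨v, hv, hv1, hv2⟩ := Half.exists_fixed (V := Z l)
    (T := (S : Subgroup G) ⊓ normalizer (Z l : Set G)) hV hne (S.2.to_le inf_le_left) inf_le_right
  have h3 := D.zfix l v hv (fun s hs h => hv2 s ⟨hs, mem_norm h⟩)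
  rcases h3 with h3 | h3
  · exact absurd h3 hv1
  · rw [← h3]
    exact hv2 s ⟨hs, (D.mem_nor_iff hs).mpr h⟩

theorem z_conj [Finite G] {s : G} (hs : s ∈ (S : Subgroup G)) (l : ι) :
    s * z l * s⁻¹ = z (D.sg s l) := by
  have h1 := D.zfix (D.sg s l) (s * z l * s⁻¹) ((D.sg_spec hs l).1 _ (D.zm l)) (fun t ht h => ?_)
  · rcases h1 with h1 | h1
    · exact absurd (by simpa using h1) (D.z1 l)
    · exact h1
  · have h2 : D.sg t (D.sg s l) = D.sg s l := D.sg_eq' ht h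
    have h3 : s⁻¹ * t * s ∈ (S : Subgroup G) := mul_mem (mul_mem (inv_mem hs) ht) hs
    have h4 : D.sg (s⁻¹ * t * s) l = l := by
      rw [D.sg_mul (mul_mem (inv_mem hs) ht) hs, D.sg_mul (inv_mem hs) ht, h2, D.sg_inv hs rfl]
    have h5 := D.z_fix h3 h4
    calc t * (s * z l * s⁻¹) * t⁻¹ = s * ((s⁻¹ * t * s) * z l * (s⁻¹ * t * s)⁻¹) * s⁻¹ := by group
      _ = s * z l * s⁻¹ := by rw [h5]

theorem z_inj {l m : ι} (h : z l = z m) : l = m := by
  by_contra hne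
  exact D.z1 l (D.disjZ hne (D.zm l) (h ▸ D.zm m))

/-- an element of `S` centralising `z_l` normalises `Z_l`. -/
theorem sg_of_z [Finite G] {s : G} (hs : s ∈ (S : Subgroup G)) {l : ι} (h : s * z l = z l * s) :
    D.sg s l = l := by
  apply D.z_inj
  rw [← D.z_conj hs l, h]; group

theorem sg_iff_z [Finite G] {s : G} (hs : s ∈ (S : Subgroup G)) {l : ι} :
    D.sg s l = l ↔ s ∈ centralizer ({z l} : Set G) := by
  rw [mem_centralizer_singleton_iff]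
  constructor
  · intro h
    have := D.z_fix hs h
    exact (mul_inv_eq_iff_eq_mul.mp this)
  · exact fun h => D.sg_of_z hs h

/-! ### `E = Ω₁Z(S⁰)` -/

theorem Q_le_S0 : Q ≤ S0 (S : Subgroup G) Z := by
  intro q hq
  rw [mem_S0]
  refine ⟨D.QS hq, fun l => ?_⟩
  rw [mem_normalizer_iff]
  have key : ∀ v ∈ Z l, q * v * q⁻¹ = v := fun v hv => by
    have : q * v = v * q := mem_centralizer_iff.mp (zc_le_centralizer Q (D.le l hv)) q hq
    rw [this]; group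
  intro v
  constructor
  · intro hv; rwa [key v hv]
  · intro hv
    have h1 : q⁻¹ * (q * v * q⁻¹) * q = q * v * q⁻¹ := by
      have : q * (q * v * q⁻¹) = (q * v * q⁻¹) * q :=
        mem_centralizer_iff.mp (zc_le_centralizer Q (D.le l hv)) q hq
      rw [mul_assoc, ← this]; group
    have h2 : v = q * v * q⁻¹ := by
      calc v = q⁻¹ * (q * v * q⁻¹) * q := by group
        _ = _ := h1
    rwa [h2]

theorem E_le : zc (S0 (S : Subgroup G) Z) ≤ zc Q := zc_le_of_le D.CQ D.Q_le_S0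

theorem mem_E {v : G} : v ∈ zc (S0 (S : Subgroup G) Z) ↔
    v ∈ zc Q ∧ ∀ s ∈ S0 (S : Subgroup G) Z, s * v = v * s := mem_zc_iff_of_le D.CQ D.Q_le_S0

theorem z_mem_E [Finite G] (l : ι) : z l ∈ zc (S0 (S : Subgroup G) Z) := by
  rw [D.mem_E]
  refine ⟨D.le l (D.zm l), fun s hs => ?_⟩
  have h1 := (D.mem_S0_iff (Dat.S0_le hs)).mp hs l
  have := (D.sg_iff_z (Dat.S0_le hs)).mp h1
  rw [mem_centralizer_singleton_iff] at this
  exact this

theorem S_le_nor_S0 [Finite G] : (S : Subgroup G) ≤ normalizer (S0 (S : Subgroup G) Z : Set G) := by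
  intro s hs
  refine mem_norm fun t ht => ?_
  have ht1 := Dat.S0_le ht
  have h1 : s * t * s⁻¹ ∈ (S : Subgroup G) := mul_mem (mul_mem hs ht1) (inv_mem hs)
  rw [D.mem_S0_iff h1]
  intro l
  rw [D.sg_mul (mul_mem hs ht1) (inv_mem hs), D.sg_mul hs ht1, (D.mem_S0_iff ht1).mp ht,
    ← D.sg_mul hs (inv_mem hs), mul_inv_cancel, D.sg_one]

theorem S_le_nor_E [Finite G] : (S : Subgroup G) ≤ normalizer (zc (S0 (S : Subgroup G) Z) : Set G) :=
  fun _ hs => normalizer_le_normalizer_zc _ (D.S_le_nor_S0 hs)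

end basics

end DatD

end Cfsg.Agent.Omega.IId.ThmCD
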