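import Cfsg.Agent.Omega.ThmC.FourMain

/-!
# THEOREM C with `D = C_V(O²(P))`, case `q ≥ 4` (bb OMEGA #20115, helper914): the theorem in `N = N_G(E) / C_G(E)`

A copy of helper610's / helper522's `ThmC/Four{Dec,Two,Main}` with `C_E(S) ≤ D ⊔ ∑ Z l`, `D` centralised by all `h l`:
`A = E₀ ⊕ ⨁ C_l`, `E₀ = C_A(⟨h l⟩)`.

* `AbsD.main` : a 2-subgroup `W` of `N` normalised by the `h l` and by the elements of `S` which normalise every `⟨h l⟩`
  is trivial, if the elements of `W` which commute with all but one of the `h l` are trivial.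
-/

set_option autoImplicit false
set_option linter.unusedSectionVars false
set_option linter.unusedVariables false
set_option linter.style.haveILetI false

namespace Cfsg.Agent.Omega.IId.ThmCD.Four

open Subgroup Cfsg
open Cfsg.Agent.Omega.ThmC.Four hiding Abs

universe u

/-- The data of THEOREM C with `D`, case `q ≥ 4`, in `N = N_G(E) / C_G(E)`, acting faithfully on `A = E`. -/
structure AbsD {N A : Type u} [Group N] [Finite N] [AddCommGroup A] [Finite A] (ρ : N →* AddMonoid.End A)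
    (S : Sylow 2 N) {k : ℕ} (h : Fin k → N) (Z : Fin k → AddSubgroup A) (p : ℕ) : Prop where
  two : ∀ a : A, a + a = 0
  inj : Function.Injective ρ
  prime : p.Prime
  odd : p ≠ 2
  hcomm : ∀ l m, h l * h m = h m * h l
  hp : ∀ l, h l ^ p = 1
  perm : ∀ s ∈ (S : Subgroup N), ∃ σ : Equiv.Perm (Fin k), ∀ l, ∃ r : ℕ, s * h l * s⁻¹ = h (σ l) ^ r
  field : ∀ s ∈ (S : Subgroup N), (∀ l, s * h l = h l * s) → s = 1
  Zne : ∀ l, Z l ≠ ⊥
  Znor : ∀ l, ∀ z ∈ Z l, ρ (h l) z ∈ Z l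
  Zfpf : ∀ l, ∀ z ∈ Z l, ρ (h l) z = z → z = 0
  Zcent : ∀ l m, l ≠ m → ∀ z ∈ Z l, ρ (h m) z = z
  fix : ∀ a : A, (∀ s ∈ (S : Subgroup N), ρ s a = a) →
    ∃ c, (∀ l, ρ (h l) c = c) ∧ a + c ∈ ⨆ l, Z l

namespace AbsD


variable {N A : Type u} [Group N] [Finite N] [AddCommGroup A] [Finite A] {ρ : N →* AddMonoid.End A}
  {S : Sylow 2 N} {k : ℕ} {h : Fin k → N} {Z : Fin k → AddSubgroup A} {p : ℕ}

theorem DD_comm (d : AbsD ρ S h Z p) : ∀ x ∈ DD h, ∀ y ∈ DD h, x * y = y * x := by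
  have h1 : ∀ l, ∀ y ∈ DD h, h l * y = y * h l := by
    intro l y hy
    have : DD h ≤ centralizer ({h l} : Set N) := by
      rw [DD, closure_le]
      rintro _ ⟨m, rfl⟩
      rw [SetLike.mem_coe, mem_centralizer_iff]
      rintro _ rfl
      exact d.hcomm l m
    exact mem_centralizer_iff.1 (this hy) _ rfl
  intro x hx y hy
  have : DD h ≤ centralizer ({y} : Set N) := by
    rw [DD, closure_le]
    rintro _ ⟨m, rfl⟩
    rw [SetLike.mem_coe, mem_centralizer_iff]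
    rintro _ rfl
    exact (h1 m _ hy).symm
  exact (mem_centralizer_iff.1 (this hx) _ rfl).symm

theorem DD_pow (d : AbsD ρ S h Z p) : ∀ x ∈ DD h, x ^ p = 1 := by
  intro x hx
  have hx' := hx
  rw [DD] at hx
  induction hx using Subgroup.closure_induction with
  | mem z hz => obtain ⟨l, rfl⟩ := hz; exact d.hp l
  | one => exact one_pow _
  | mul a b ha hb iha ihb =>
    have hc : Commute a b := d.DD_comm a ha b hb
    rw [hc.mul_pow, iha ha, ihb hb, one_mul]
  | inv a ha iha => rw [inv_pow, iha ha, inv_one]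

theorem odd_card (d : AbsD ρ S h Z p) {X : Subgroup N} (hX : X ≤ DD h) : Odd (Nat.card X) := by
  haveI := Fact.mk d.prime
  have : IsPGroup p X := fun x => ⟨1, by
    rw [pow_one]
    exact Subtype.ext (d.DD_pow _ (hX x.2))⟩
  obtain ⟨n, hn⟩ := IsPGroup.iff_card.1 this
  rw [hn]
  exact (d.prime.odd_of_ne_two d.odd).pow

theorem zpowers_le_DD' (l : Fin k) : zpowers (h l) ≤ DD h := zpowers_le_DD h l

theorem DD_le_sup {l m : Fin k} (hlm : l ≠ m) : DD h ≤ DL h l ⊔ DL h m := by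
  rw [DD, closure_le]
  rintro _ ⟨j, rfl⟩
  by_cases hj : j = l
  · subst hj
    exact mem_sup_right (h_mem_DL h hlm)
  · exact mem_sup_left (h_mem_DL h hj)

theorem DD_le_sup' (l : Fin k) : DD h ≤ zpowers (h l) ⊔ DL h l := by
  rw [DD, closure_le]
  rintro _ ⟨j, rfl⟩
  by_cases hj : j = l
  · subst hj
    exact mem_sup_left (mem_zpowers _)
  · exact mem_sup_right (h_mem_DL h hj)

theorem avg_mul' (d : AbsD ρ S h Z p) {X Y Z' : Subgroup N} (hX : X ≤ DD h) (hY : Y ≤ DD h) (hZ : Z' ≤ DD h)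
    (hXZ : X ≤ Z') (hYZ : Y ≤ Z') (hle : Z' ≤ X ⊔ Y) : avg ρ X * avg ρ Y = avg ρ Z' :=
  avg_mul_avg ρ d.two (d.odd_card hX) (d.odd_card hY) (d.odd_card hZ) hXZ hYZ hle
    fun x hx y hy => d.DD_comm x (hX hx) y (hY hy)

theorem DL_DL (d : AbsD ρ S h Z p) {l m : Fin k} (hlm : l ≠ m) :
    avg ρ (DL h l) * avg ρ (DL h m) = avg ρ (DD h) :=
  d.avg_mul' (DL_le h l) (DL_le h m) le_rfl (DL_le h l) (DL_le h m) (DD_le_sup hlm)

theorem self_mul (d : AbsD ρ S h Z p) {X : Subgroup N} (hX : X ≤ DD h) : avg ρ X * avg ρ X = avg ρ X :=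
  d.avg_mul' hX hX hX le_rfl le_rfl le_sup_left

theorem mul_DD (d : AbsD ρ S h Z p) {X : Subgroup N} (hX : X ≤ DD h) : avg ρ X * avg ρ (DD h) = avg ρ (DD h) :=
  d.avg_mul' hX le_rfl le_rfl hX le_rfl le_sup_right

theorem DD_mul (d : AbsD ρ S h Z p) {X : Subgroup N} (hX : X ≤ DD h) : avg ρ (DD h) * avg ρ X = avg ρ (DD h) :=
  d.avg_mul' le_rfl hX le_rfl le_rfl hX le_sup_left

theorem add_self' (d : AbsD ρ S h Z p) (T : AddMonoid.End A) : T + T = 0 := End_two d.two T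

theorem eps_idem (d : AbsD ρ S h Z p) (l : Fin k) : eps ρ h l * eps ρ h l = eps ρ h l := by
  rw [eps, mul_add, add_mul, add_mul, d.self_mul (DL_le h l), d.mul_DD (DL_le h l), d.DD_mul (DL_le h l),
    d.self_mul le_rfl, d.add_self', add_zero]

theorem eps_orth (d : AbsD ρ S h Z p) {l m : Fin k} (hlm : l ≠ m) : eps ρ h l * eps ρ h m = 0 := by
  rw [eps, eps, mul_add, add_mul, add_mul, d.DL_DL hlm, d.mul_DD (DL_le h l), d.DD_mul (DL_le h m),
    d.self_mul le_rfl, d.add_self']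

theorem h_mul_eps (d : AbsD ρ S h Z p) {l m : Fin k} (hml : m ≠ l) : ρ (h m) * eps ρ h l = eps ρ h l := by
  rw [eps, mul_add, left_avg ρ (h_mem_DL h hml), left_avg ρ (h_mem_DD h m)]

theorem eps_mul_h (d : AbsD ρ S h Z p) {l m : Fin k} (hml : m ≠ l) : eps ρ h l * ρ (h m) = eps ρ h l := by
  rw [eps, add_mul, avg_right ρ (h_mem_DL h hml), avg_right ρ (h_mem_DD h m)]

/-- An element of `N` which commutes with all `h m` commutes with `eps l`. -/
theorem commute_DD (d : AbsD ρ S h Z p) {x : N} (hx : x ∈ DD h) (l : Fin k) :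
    ρ x * eps ρ h l = eps ρ h l * ρ x := by
  rw [eps, mul_add, add_mul]
  congr 1
  · refine commute_avg ρ fun y hy => ?_
    rw [← map_mul, ← map_mul, d.DD_comm x hx y (DL_le h l hy)]
  · refine commute_avg ρ fun y hy => ?_
    rw [← map_mul, ← map_mul, d.DD_comm x hx y hy]

/-! ### the action of `S` -/

/-- `s` permutes the `⟨h l⟩` as `σ`. -/
def Perm (h : Fin k → N) (s : N) (σ : Equiv.Perm (Fin k)) : Prop :=
  ∀ l, ∃ r : ℕ, s * h l * s⁻¹ = h (σ l) ^ r

theorem map_DL_le {s : N} {σ : Equiv.Perm (Fin k)} (hs : Perm h s σ) (l : Fin k) :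
    (DL h l).map (MulAut.conj s).toMonoidHom ≤ DL h (σ l) := by
  rw [DL, MonoidHom.map_closure, closure_le]
  rintro _ ⟨_, ⟨m, hm, rfl⟩, rfl⟩
  obtain ⟨r, hr⟩ := hs m
  have : (MulAut.conj s).toMonoidHom (h m) = h (σ m) ^ r := by rw [← hr]; rfl
  rw [SetLike.mem_coe, this]
  exact pow_mem (h_mem_DL h fun e => hm (σ.injective e)) _

theorem map_DD_le {s : N} {σ : Equiv.Perm (Fin k)} (hs : Perm h s σ) :
    (DD h).map (MulAut.conj s).toMonoidHom ≤ DD h := by
  rw [DD, MonoidHom.map_closure, closure_le]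
  rintro _ ⟨_, ⟨m, rfl⟩, rfl⟩
  obtain ⟨r, hr⟩ := hs m
  have : (MulAut.conj s).toMonoidHom (h m) = h (σ m) ^ r := by rw [← hr]; rfl
  rw [SetLike.mem_coe, this]
  exact pow_mem (h_mem_DD h _) _

theorem card_map_conj (X : Subgroup N) (s : N) :
    Nat.card (X.map (MulAut.conj s).toMonoidHom) = Nat.card X :=
  Nat.card_congr (X.equivMapOfInjective (MulAut.conj s).toMonoidHom (MulAut.conj s).injective).toEquiv.symm

theorem map_DD {s : N} {σ : Equiv.Perm (Fin k)} (hs : Perm h s σ) :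
    (DD h).map (MulAut.conj s).toMonoidHom = DD h :=
  eq_of_le_of_card_ge (map_DD_le hs) (card_map_conj _ _).ge

theorem map_DL {s : N} {σ : Equiv.Perm (Fin k)} (hs : Perm h s σ) (l : Fin k) :
    (DL h l).map (MulAut.conj s).toMonoidHom = DL h (σ l) := by
  have h1 : ∀ m, Nat.card (DL h m) ≤ Nat.card (DL h (σ m)) := by
    intro m
    rw [← card_map_conj (DL h m) s]
    exact Subgroup.card_le_of_le (map_DL_le hs m)
  have h2 := (Finset.sum_eq_sum_iff_of_le (s := Finset.univ) (fun i _ => h1 i)).1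
    (Equiv.sum_comp σ fun m => Nat.card (DL h m)).symm l (Finset.mem_univ l)
  refine eq_of_le_of_card_ge (map_DL_le hs l) ?_
  rw [card_map_conj, h2]

theorem conj_eps {s : N} {σ : Equiv.Perm (Fin k)} (hs : Perm h s σ) (l : Fin k) :
    ρ s * eps ρ h l = eps ρ h (σ l) * ρ s := by
  rw [eps, eps, mul_add, add_mul, avg_conj, avg_conj, map_DL hs, map_DD hs]

/-! ### (1) -/

theorem pow_fix {x : N} {a : A} (hx : ρ x a = a) {y : N} (hy : y ∈ zpowers x) : ρ y a = a := by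
  obtain ⟨n, rfl⟩ := hy
  have h1 : ∀ m : ℕ, ρ (x ^ m) a = a := by
    intro m
    induction m with
    | zero => rw [pow_zero, map_one]; rfl
    | succ m ih => rw [pow_succ, map_mul]; change ρ (x ^ m) (ρ x a) = a; rw [hx, ih]
  rcases n with n | n
  · have h3 := h1 n
    change ρ (x ^ ((n : ℕ) : ℤ)) a = a
    rw [zpow_natCast]
    exact h3
  · have h3 : ρ (x ^ (n + 1)) a = a := h1 _
    calc ρ ((fun z : ℤ => x ^ z) (Int.negSucc n)) a = ρ (x ^ (n + 1))⁻¹ a := by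
          rw [show (fun z : ℤ => x ^ z) (Int.negSucc n) = (x ^ (n + 1))⁻¹ from zpow_negSucc x n]
      _ = ρ (x ^ (n + 1))⁻¹ (ρ (x ^ (n + 1)) a) := by rw [h3]
      _ = ρ ((x ^ (n + 1))⁻¹ * x ^ (n + 1)) a := by rw [map_mul]; rfl
      _ = a := by rw [inv_mul_cancel, map_one]; rfl

/-- `Z l` is invariant under `D`. -/
theorem Z_inv (d : AbsD ρ S h Z p) (l : Fin k) : ∀ x ∈ DD h, ∀ z ∈ Z l, ρ x z ∈ Z l := by
  have hgen : ∀ m, ∀ z ∈ Z l, ρ (h m) z ∈ Z l := by
    intro m z hz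
    by_cases hm : l = m
    · subst hm; exact d.Znor l z hz
    · rw [d.Zcent l m hm z hz]; exact hz
  intro x hx
  rw [DD] at hx
  induction hx using Subgroup.closure_induction with
  | mem y hy => obtain ⟨m, rfl⟩ := hy; exact hgen m
  | one => intro z hz; rw [map_one]; exact hz
  | mul a b ha hb iha ihb => intro z hz; rw [map_mul]; exact iha _ (ihb z hz)
  | inv a ha iha =>
    intro z hz
    -- `a⁻¹ = a ^ (p - 1)`
    have h1 : a⁻¹ = a ^ (p - 1) := by
      have h2 := d.DD_pow a ha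
      have h3 : a ^ (p - 1) * a = 1 := by
        rw [← pow_succ, Nat.sub_add_cancel d.prime.one_lt.le, h2]
      exact (eq_inv_of_mul_eq_one_left h3).symm
    rw [h1]
    generalize p - 1 = n
    induction n with
    | zero => rw [pow_zero, map_one]; exact hz
    | succ n ih => rw [pow_succ', map_mul]; exact iha _ ih

theorem avg_Z (d : AbsD ρ S h Z p) {l : Fin k} {X : Subgroup N} (hX : X ≤ DD h) (hl : h l ∈ X) {z : A}
    (hz : z ∈ Z l) : avg ρ X z = 0 := by
  refine d.Zfpf l _ (avg_mem ρ (fun x hx => d.Z_inv l x (hX hx)) hz) ?_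
  exact fix_avg_apply ρ hl z

theorem avg_DL_Z (d : AbsD ρ S h Z p) {l : Fin k} {z : A} (hz : z ∈ Z l) : avg ρ (DL h l) z = z := by
  refine avg_apply_of_fix ρ d.two (d.odd_card (DL_le h l)) fun x hx => ?_
  rw [DL] at hx
  induction hx using Subgroup.closure_induction with
  | mem y hy => obtain ⟨m, hm, rfl⟩ := hy; exact d.Zcent l m (fun e => hm e.symm) z hz
  | one => rw [map_one]; rfl
  | mul a b ha hb iha ihb => rw [map_mul]; change ρ a (ρ b z) = z; rw [ihb, iha]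
  | inv a ha iha => exact pow_fix iha ⟨-1, by simp⟩

theorem eps_Z (d : AbsD ρ S h Z p) {l : Fin k} {z : A} (hz : z ∈ Z l) : eps ρ h l z = z := by
  change avg ρ (DL h l) z + avg ρ (DD h) z = z
  rw [d.avg_DL_Z hz, d.avg_Z le_rfl (h_mem_DD h l) hz, add_zero]

theorem eps_Z' (d : AbsD ρ S h Z p) {l m : Fin k} (hml : m ≠ l) {z : A} (hz : z ∈ Z l) : eps ρ h m z = 0 := by
  change avg ρ (DL h m) z + avg ρ (DD h) z = 0
  rw [d.avg_Z (DL_le h m) (h_mem_DL h hml.symm) hz, d.avg_Z le_rfl (h_mem_DD h l) hz, add_zero]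

theorem eps_ne (d : AbsD ρ S h Z p) (l : Fin k) : ∃ a, eps ρ h l a ≠ 0 := by
  obtain ⟨a, ha⟩ := AddSubgroup.ne_bot_iff_exists_ne_zero.1 (d.Zne l)
  refine ⟨a, ?_⟩
  rw [d.eps_Z a.2]
  exact fun h => ha (Subtype.ext h)

theorem e0_mul_eps (d : AbsD ρ S h Z p) (l : Fin k) : avg ρ (DD h) * eps ρ h l = 0 := by
  rw [eps, mul_add, d.DD_mul (DL_le h l), d.self_mul le_rfl, d.add_self']

theorem eps_mul_e0 (d : AbsD ρ S h Z p) (l : Fin k) : eps ρ h l * avg ρ (DD h) = 0 := by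
  rw [eps, add_mul, d.mul_DD (DL_le h l), d.self_mul le_rfl, d.add_self']

/-- a vector fixed by all `h l` is fixed by `D`. -/
theorem fix_DD {c : A} (hc : ∀ l, ρ (h l) c = c) : ∀ x ∈ DD h, ρ x c = c := by
  intro x hx
  rw [DD] at hx
  induction hx using Subgroup.closure_induction with
  | mem y hy => obtain ⟨m, rfl⟩ := hy; exact hc m
  | one => rw [map_one]; rfl
  | mul a b ha hb iha ihb => rw [map_mul]; change ρ a (ρ b c) = c; rw [ihb, iha]
  | inv a ha iha => exact pow_fix iha ⟨-1, by simp⟩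

/-- **(1)** `A = E₀ ⊕ ⨁ C_l`. -/
theorem sum_eps (d : AbsD ρ S h Z p) : avg ρ (DD h) + ∑ l, eps ρ h l = 1 := by
  classical
  set E₁ : AddMonoid.End A := ∑ l, eps ρ h l with hE₁
  set e0 : AddMonoid.End A := avg ρ (DD h) with he0
  set E : AddMonoid.End A := e0 + E₁ with hE
  have hEE1 : E₁ * E₁ = E₁ := by
    rw [hE₁, Finset.sum_mul]
    refine Finset.sum_congr rfl fun l _ => ?_
    rw [Finset.mul_sum, Finset.sum_eq_single l (fun m _ hm => d.eps_orth hm.symm)
      (fun h => (h (Finset.mem_univ l)).elim), d.eps_idem]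
  have h01 : e0 * E₁ = 0 := by
    rw [hE₁, Finset.mul_sum]
    exact Finset.sum_eq_zero fun l _ => d.e0_mul_eps l
  have h10 : E₁ * e0 = 0 := by
    rw [hE₁, Finset.sum_mul]
    exact Finset.sum_eq_zero fun l _ => d.eps_mul_e0 l
  have hEE : E * E = E := by
    rw [hE, mul_add, add_mul, add_mul, h01, h10, hEE1, d.self_mul le_rfl, add_zero, zero_add]
  have hES : ∀ s ∈ (S : Subgroup N), ρ s * E = E * ρ s := by
    intro s hs
    obtain ⟨σ, hσ⟩ := d.perm s hs
    rw [hE, mul_add, add_mul, he0, avg_conj, map_DD hσ, hE₁, Finset.mul_sum, Finset.sum_mul]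
    congr 1
    calc ∑ l, ρ s * eps ρ h l = ∑ l, eps ρ h (σ l) * ρ s := Finset.sum_congr rfl fun l _ => conj_eps hσ l
      _ = _ := Equiv.sum_comp σ fun l => eps ρ h l * ρ s
  have hEapp : ∀ a, E₁ a = ∑ l, eps ρ h l a := by
    intro a
    rw [hE₁]
    exact AddMonoidHom.finsetSum_apply _ _ _
  have hEZ : ∀ a ∈ ⨆ l, Z l, E a = a := by
    intro a ha
    have : ⨆ l, Z l ≤ (E : A →+ A).eqLocus (AddMonoidHom.id A) := by
      refine iSup_le fun l z hz => ?_
      change e0 z + E₁ z = z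
      rw [hEapp, Finset.sum_eq_single l (fun m _ hm => d.eps_Z' hm hz)
        (fun h => (h (Finset.mem_univ l)).elim), d.eps_Z hz, he0, d.avg_Z le_rfl (h_mem_DD h l) hz, zero_add]
    exact this ha
  have hEc : ∀ c, (∀ l, ρ (h l) c = c) → E c = c := by
    intro c hc
    have h1 := fix_DD hc
    have h2 : e0 c = c := avg_apply_of_fix ρ d.two (d.odd_card le_rfl) h1
    have h3 : ∀ l, eps ρ h l c = 0 := by
      intro l
      change avg ρ (DL h l) c + avg ρ (DD h) c = 0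
      rw [avg_apply_of_fix ρ d.two (d.odd_card (DL_le h l)) fun x hx => h1 x (DL_le h l hx),
        avg_apply_of_fix ρ d.two (d.odd_card le_rfl) h1, d.two]
    change e0 c + E₁ c = c
    rw [hEapp, Finset.sum_eq_zero fun l _ => h3 l, h2, add_zero]
  have hker : (E : A →+ A).ker = ⊥ := by
    by_contra hne
    obtain ⟨a, ha, ha0, hfix⟩ := exists_fix (ρ := ρ) d.two S.isPGroup' (K := (E : A →+ A).ker) (by
      intro s hs a ha
      have h1 : E a = 0 := ha
      change E (ρ s a) = 0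
      have h2 := congrArg (fun T : AddMonoid.End A => T a) (hES s hs)
      change ρ s (E a) = E (ρ s a) at h2
      rw [← h2, h1, map_zero]) hne
    have h1 : E a = 0 := ha
    obtain ⟨c, hc, hac⟩ := d.fix a hfix
    have h2 := hEZ _ hac
    rw [map_add, h1, hEc c hc, zero_add] at h2
    exact ha0 (right_eq_add.1 h2)
  ext a
  have h1 : a + E a ∈ (E : A →+ A).ker := by
    change E (a + E a) = 0
    have h2 := congrArg (fun T : AddMonoid.End A => T a) hEE
    change E (E a) = E a at h2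
    rw [map_add, h2, d.two]
  rw [hker, AddSubgroup.mem_bot] at h1
  change E a = a
  have h3 := d.two a
  calc E a = a + a + E a := by rw [h3, zero_add]
    _ = a + (a + E a) := by rw [add_assoc]
    _ = a := by rw [h1, add_zero]

theorem avg_h_mul_eps (d : AbsD ρ S h Z p) (l : Fin k) : avg ρ (zpowers (h l)) * eps ρ h l = 0 := by
  rw [eps, mul_add, d.mul_DD (zpowers_le_DD h l),
    d.avg_mul' (zpowers_le_DD h l) (DL_le h l) le_rfl (zpowers_le_DD h l) (DL_le h l) (DD_le_sup' l), d.add_self']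

/-- `eps l = 1 + avg ⟨h l⟩`. -/
theorem eps_eq (d : AbsD ρ S h Z p) (l : Fin k) : eps ρ h l = 1 + avg ρ (zpowers (h l)) := by
  classical
  have h1 : avg ρ (zpowers (h l)) = avg ρ (DD h) + ∑ m, avg ρ (zpowers (h l)) * eps ρ h m := by
    rw [← Finset.mul_sum]
    conv_rhs => rw [← d.mul_DD (zpowers_le_DD h l)]
    rw [← mul_add, d.sum_eps, mul_one]
  have h2 : eps ρ h l + avg ρ (zpowers (h l)) = 1 := by
    rw [h1, ← d.sum_eps, ← Finset.add_sum_erase Finset.univ _ (Finset.mem_univ l),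
      ← Finset.add_sum_erase (a := l) Finset.univ (fun m => eps ρ h m) (Finset.mem_univ l), d.avg_h_mul_eps, zero_add]
    have h3 : ∑ x ∈ Finset.univ.erase l, avg ρ (zpowers (h l)) * eps ρ h x =
        ∑ x ∈ Finset.univ.erase l, eps ρ h x := by
      refine Finset.sum_congr rfl fun m hm => ?_
      have hml : l ≠ m := (Finset.ne_of_mem_erase hm).symm
      refine avg_mul_of_fix ρ d.two (d.odd_card (zpowers_le_DD h l)) fun x hx => ?_
      ext a
      exact pow_fix (ρ := ρ) (congrArg (fun T : AddMonoid.End A => T a) (d.h_mul_eps hml)) hx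
    rw [h3]
    abel
  calc eps ρ h l = eps ρ h l + (avg ρ (zpowers (h l)) + avg ρ (zpowers (h l))) := by rw [d.add_self', add_zero]
    _ = _ := by rw [← add_assoc, h2]

/-- `h l` is fixed-point-free on `C_l`. -/
theorem fpf (d : AbsD ρ S h Z p) {l : Fin k} {a : A} (ha : ρ (h l) (eps ρ h l a) = eps ρ h l a) :
    eps ρ h l a = 0 := by
  have h1 : avg ρ (zpowers (h l)) (eps ρ h l a) = eps ρ h l a :=
    avg_apply_of_fix ρ d.two (d.odd_card (zpowers_le_DD h l)) fun x hx => pow_fix ha hx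
  rw [← h1]
  exact congrArg (fun T : AddMonoid.End A => T a) (d.avg_h_mul_eps l)

/-- An element of `N` which commutes with `h l` commutes with `eps l`. -/
theorem commute_eps (d : AbsD ρ S h Z p) {x : N} {l : Fin k} (hx : x * h l = h l * x) :
    ρ x * eps ρ h l = eps ρ h l * ρ x := by
  rw [d.eps_eq, mul_add, add_mul, mul_one, one_mul]
  congr 1
  refine commute_avg ρ fun y hy => ?_
  obtain ⟨n, rfl⟩ := hy
  rw [← map_mul, ← map_mul]
  congr 1
  exact ((show Commute x (h l) from hx).zpow_right n)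

theorem h_ne (d : AbsD ρ S h Z p) (l : Fin k) : h l ≠ 1 := by
  intro he
  obtain ⟨a, ha⟩ := d.eps_ne l
  refine ha (d.fpf ?_)
  rw [he, map_one]
  rfl

theorem orderOf_h (d : AbsD ρ S h Z p) (l : Fin k) : orderOf (h l) = p := by
  haveI := Fact.mk d.prime
  exact orderOf_eq_prime (d.hp l) (d.h_ne l)



/-! ### (2) -/


variable {N A : Type u} [Group N] [Finite N] [AddCommGroup A] [Finite A] {ρ : N →* AddMonoid.End A}
  {S : Sylow 2 N} {k : ℕ} {h : Fin k → N} {Z : Fin k → AddSubgroup A} {p : ℕ}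

theorem Perm.mul {s t : N} {σ τ : Equiv.Perm (Fin k)} (hs : Perm h s σ) (ht : Perm h t τ) :
    Perm h (s * t) (σ * τ) := by
  intro l
  obtain ⟨r, hr⟩ := ht l
  obtain ⟨r', hr'⟩ := hs (τ l)
  refine ⟨r' * r, ?_⟩
  calc s * t * h l * (s * t)⁻¹ = s * (t * h l * t⁻¹) * s⁻¹ := by group
    _ = (s * h (τ l) * s⁻¹) ^ r := by rw [hr, conj_pow]
    _ = h ((σ * τ) l) ^ (r' * r) := by rw [hr', ← pow_mul]; rfl

theorem conj_eps_apply {s : N} {σ : Equiv.Perm (Fin k)} (hs : Perm h s σ) (l : Fin k) (a : A) :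
    ρ s (eps ρ h l a) = eps ρ h (σ l) (ρ s a) :=
  congrArg (fun T : AddMonoid.End A => T a) (conj_eps hs l)

theorem idem_apply (d : AbsD ρ S h Z p) (l : Fin k) (a : A) : eps ρ h l (eps ρ h l a) = eps ρ h l a :=
  congrArg (fun T : AddMonoid.End A => T a) (d.eps_idem l)

theorem orth_apply (d : AbsD ρ S h Z p) {l m : Fin k} (hlm : l ≠ m) (a : A) : eps ρ h l (eps ρ h m a) = 0 :=
  congrArg (fun T : AddMonoid.End A => T a) (d.eps_orth hlm)

theorem sq_apply {g : N} (hgg : g * g = 1) (a : A) : ρ g (ρ g a) = a := by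
  rw [← rho_mul, hgg, rho_one]

/-- elements of `[A, g]` are fixed by the involution `g`. -/
theorem fix_im {g : N} (hgg : g * g = 1) {a : A} (ha : a ∈ im ρ g) : ρ g a = a := by
  obtain ⟨b, rfl⟩ := mem_im.1 ha
  rw [map_add, sq_apply hgg, add_comm]

theorem stepA1 (d : AbsD ρ S h Z p) {f g : N} {σ τ : Equiv.Perm (Fin k)} (hf : Perm h f σ) (hg : Perm h g τ)
    (hgg : g * g = 1) (him : im ρ f ≤ im ρ g) {x : Fin k} (hx : σ x ≠ x) : τ x ≠ x := by
  intro hτ
  have key : ∀ a, ∃ b, eps ρ h x a = eps ρ h x b + ρ g (eps ρ h x b) := by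
    intro a
    obtain ⟨b, hb⟩ := mem_im.1 (him (mem_im.2 ⟨eps ρ h x a, rfl⟩))
    refine ⟨b, ?_⟩
    have h1 := congrArg (eps ρ h x) hb
    rw [map_add, map_add, d.idem_apply, conj_eps_apply hf, d.orth_apply hx.symm, add_zero] at h1
    rw [conj_eps_apply hg, hτ]
    exact h1.symm
  have hfix : ∀ a, ρ g (eps ρ h x a) = eps ρ h x a := by
    intro a
    obtain ⟨b, hb⟩ := key a
    rw [hb, map_add, sq_apply hgg, add_comm]
  obtain ⟨a, ha⟩ := d.eps_ne x
  obtain ⟨b, hb⟩ := key a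
  rw [hfix, d.two] at hb
  exact ha hb

theorem stepA2 (d : AbsD ρ S h Z p) {f g : N} {σ τ : Equiv.Perm (Fin k)} (hf : Perm h f σ) (hg : Perm h g τ)
    (hgg : g * g = 1) (him : im ρ f ≤ im ρ g) {x : Fin k} (hx : σ x ≠ x) (hx' : τ x ≠ x) : τ (σ x) = x := by
  by_contra hne
  obtain ⟨a, ha⟩ := d.eps_ne x
  have h1 := fix_im hgg (him (mem_im.2 ⟨eps ρ h x a, rfl⟩))
  have h2 := congrArg (eps ρ h x) h1
  rw [map_add, map_add, map_add, d.idem_apply, conj_eps_apply hf, d.orth_apply hx.symm, add_zero,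
    conj_eps_apply hg, conj_eps_apply hg, d.orth_apply (Ne.symm hx'), d.orth_apply (Ne.symm hne), add_zero] at h2
  exact ha h2.symm

theorem stepA (d : AbsD ρ S h Z p) {f g : N} {σ τ : Equiv.Perm (Fin k)} (hf : Perm h f σ) (hg : Perm h g τ)
    (hgg : g * g = 1) (hgf : g * f * (g * f) = 1) (h1 : im ρ f = im ρ g) (h2 : im ρ f = im ρ (g * f))
    (x : Fin k) : σ x = x := by
  by_contra hx
  have h3 := d.stepA1 hf hg hgg h1.le hx
  have h4 := d.stepA2 hf hg hgg h1.le hx h3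
  exact d.stepA1 hf (hg.mul hf) hgf h2.le hx h4

theorem inv_or (d : AbsD ρ S h Z p) {f : N} (hff : f * f = 1) {l : Fin k} {r : ℕ}
    (hr : f * h l * f⁻¹ = h l ^ r) : f * h l = h l * f ∨ f * h l = (h l)⁻¹ * f := by
  have hfi : f⁻¹ = f := by rw [inv_eq_iff_mul_eq_one, hff]
  have h1 : h l ^ ((r : ℤ) * r) = h l ^ (1 : ℤ) := by
    have e1 : f * (f * h l * f⁻¹) * f⁻¹ = h l := by
      calc f * (f * h l * f⁻¹) * f⁻¹ = (f * f) * h l * (f * f)⁻¹ := by group
        _ = h l := by rw [hff]; group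
    have e2 : f * h l ^ r * f⁻¹ = h l ^ (r * r) := by
      rw [← conj_pow, hr, ← pow_mul]
    rw [hr, e2] at e1
    rw [zpow_one, ← Nat.cast_mul, zpow_natCast, e1]
  rw [← orderOf_dvd_sub_iff_zpow_eq_zpow, d.orderOf_h] at h1
  have h2 : (r : ℤ) * r - 1 = (r - 1) * (r - (-1)) := by ring
  rw [h2] at h1
  have key : ∀ n : ℤ, (p : ℤ) ∣ r - n → f * h l = h l ^ n * f := by
    intro n hn
    rw [← d.orderOf_h l, orderOf_dvd_sub_iff_zpow_eq_zpow, zpow_natCast, ← hr] at hn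
    rw [← hn, inv_mul_cancel_right]
  rcases (Nat.prime_iff_prime_int.1 d.prime).dvd_or_dvd h1 with h3 | h3
  · left
    rw [key 1 h3, zpow_one]
  · right
    rw [key (-1) h3, zpow_neg_one]

theorem sq_fix (d : AbsD ρ S h Z p) {l : Fin k} {a : A} (ha : ρ (h l) (ρ (h l) a) = a) : ρ (h l) a = a := by
  have h1 : ρ (h l ^ 2) a = a := by rw [pow_two, rho_mul, ha]
  refine pow_fix h1 ?_
  obtain ⟨m, hm⟩ := d.prime.odd_of_ne_two d.odd
  refine ⟨(m + 1 : ℕ), ?_⟩
  change (h l ^ 2) ^ ((m + 1 : ℕ) : ℤ) = h l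
  rw [zpow_natCast, ← pow_mul, show 2 * (m + 1) = p + 1 by omega, pow_succ, d.hp, one_mul]

theorem fpf' (d : AbsD ρ S h Z p) {l : Fin k} {a : A} (he : eps ρ h l a = a) (ha : ρ (h l) a = a) : a = 0 := by
  have := d.fpf (l := l) (a := a) (by rw [he, ha])
  rwa [he] at this

theorem commute_eps_apply (d : AbsD ρ S h Z p) {x : N} {l : Fin k} (hx : x * h l = h l * x) (a : A) :
    ρ x (eps ρ h l a) = eps ρ h l (ρ x a) :=
  congrArg (fun T : AddMonoid.End A => T a) (d.commute_eps hx)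

/-- If `f` inverts `h l` and `im f = im f''` where `f''` commutes with `h l`: contradiction. -/
theorem stepB (d : AbsD ρ S h Z p) {f f' : N} (hff : f * f = 1) {l : Fin k}
    (hfc : ∀ a, ρ f (eps ρ h l a) = eps ρ h l (ρ f a)) (hf : f * h l = (h l)⁻¹ * f)
    (hf' : f' * h l = h l * f') (him : im ρ f = im ρ f') : False := by
  -- `f` is trivial on the vectors `c` with `f c = c`, `f (h c) = h c`
  have key : ∀ c, eps ρ h l c = c → ρ f c = c → ρ f (ρ (h l) c) = ρ (h l) c → c = 0 := by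
    intro c hc h1 h2
    refine d.fpf' hc (d.sq_fix ?_)
    have h3 : ρ f (ρ (h l) c) = ρ (h l)⁻¹ c := by
      rw [← rho_mul, hf, rho_mul, h1]
    rw [h2] at h3
    rw [h3, ← rho_mul, mul_inv_cancel, rho_one]
  have hh : ∀ a, ρ (h l) (eps ρ h l a) = eps ρ h l (ρ (h l) a) := fun a => d.commute_eps_apply rfl a
  have h1 : ∀ a, ρ f (eps ρ h l a) = eps ρ h l a := by
    intro a
    have h0 : eps ρ h l a + ρ f (eps ρ h l a) = 0 := by
      set c := eps ρ h l a + ρ f (eps ρ h l a) with hc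
      have hcim : c ∈ im ρ f := mem_im.2 ⟨_, rfl⟩
      have hce : eps ρ h l c = c := by rw [hc, map_add, d.idem_apply, hfc, d.idem_apply]
      refine key c hce (fix_im hff hcim) ?_
      refine fix_im hff ?_
      rw [him] at hcim ⊢
      obtain ⟨b, hb⟩ := mem_im.1 hcim
      refine mem_im.2 ⟨ρ (h l) b, ?_⟩
      rw [← hb, map_add, ← rho_mul, ← rho_mul, hf']
    calc ρ f (eps ρ h l a) = (eps ρ h l a + eps ρ h l a) + ρ f (eps ρ h l a) := by rw [d.two, zero_add]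
      _ = eps ρ h l a := by rw [add_assoc, h0, add_zero]
  obtain ⟨a, ha⟩ := d.eps_ne l
  refine ha (key _ (d.idem_apply l a) (h1 a) ?_)
  rw [hh, h1]

theorem no_four_S (d : AbsD ρ S h Z p) {f g : N} (hf : f ∈ (S : Subgroup N)) (hg : g ∈ (S : Subgroup N))
    (hff : f * f = 1) (hgg : g * g = 1) (hfg : f * g = g * f) (hf1 : f ≠ 1)
    (h1 : im ρ f = im ρ g) (h2 : im ρ f = im ρ (g * f)) : False := by
  obtain ⟨σ, hσ⟩ := d.perm f hf
  obtain ⟨τ, hτ⟩ := d.perm g hg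
  have hgf : g * f * (g * f) = 1 := by
    calc g * f * (g * f) = g * (f * g) * f := by group
      _ = (g * g) * (f * f) := by rw [hfg]; group
      _ = 1 := by rw [hff, hgg, one_mul]
  have hfg' : f * g * (f * g) = 1 := by rw [hfg]; exact hgf
  have hσ1 : ∀ x, σ x = x := d.stepA hσ hτ hgg hgf h1 h2
  have hτ1 : ∀ x, τ x = x := d.stepA hτ hσ hff hfg' h1.symm (by rw [← h1, h2, hfg])
  have hσ2 : ∀ l, ∃ r : ℕ, f * h l * f⁻¹ = h l ^ r := fun l => by
    obtain ⟨r, hr⟩ := hσ l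
    exact ⟨r, by rw [hr, hσ1]⟩
  have hτ2 : ∀ l, ∃ r : ℕ, g * h l * g⁻¹ = h l ^ r := fun l => by
    obtain ⟨r, hr⟩ := hτ l
    exact ⟨r, by rw [hr, hτ1]⟩
  -- some `h l` is inverted by `f`
  have hl : ∃ l, ¬ f * h l = h l * f := by
    by_contra hcon
    push Not at hcon
    exact hf1 (d.field f hf hcon)
  obtain ⟨l, hl⟩ := hl
  obtain ⟨r, hr⟩ := hσ2 l
  have hinv : f * h l = (h l)⁻¹ * f := (d.inv_or hff hr).resolve_left hl
  have hfc : ∀ a, ρ f (eps ρ h l a) = eps ρ h l (ρ f a) := by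
    intro a
    rw [conj_eps_apply hσ, hσ1]
  obtain ⟨r', hr'⟩ := hτ2 l
  rcases d.inv_or hgg hr' with hg1 | hg1
  · exact d.stepB hff hfc hinv hg1 h1
  · refine d.stepB hff hfc hinv (f' := g * f) ?_ h2
    calc g * f * h l = g * (f * h l) := by group
      _ = (g * h l * g⁻¹)⁻¹ * g * f := by rw [hinv]; group
      _ = h l * (g * f) := by rw [hg1]; group

theorem exists_conj_le {N : Type u} [Group N] [Finite N] {S : Sylow 2 N} {M : Subgroup N}
    (hS : (S : Subgroup N) ≤ M) {T : Subgroup N} (hT : IsPGroup 2 T) (hTM : T ≤ M) :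
    ∃ x ∈ M, ∀ t ∈ T, x * t * x⁻¹ ∈ (S : Subgroup N) := by
  obtain ⟨Q, hQ⟩ := (hT.comap_of_injective M.subtype M.subtype_injective).exists_le_sylow
  obtain ⟨x, hx⟩ := MulAction.exists_smul_eq M Q (S.subtype hS)
  refine ⟨x, x.2, fun t ht => ?_⟩
  have h1 : (⟨t, hTM ht⟩ : M) ∈ Q := hQ ht
  have h2 : x * ⟨t, hTM ht⟩ * x⁻¹ ∈ (x • Q : Sylow 2 M) := by
    rw [← SetLike.mem_coe, Sylow.coe_smul]
    exact ⟨⟨t, hTM ht⟩, h1, rfl⟩
  rw [hx] at h2
  exact h2

theorem im_conj (x f : N) : im ρ (x * f * x⁻¹) = (im ρ f).map (ρ x : A →+ A) := by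
  ext a
  constructor
  · intro ha
    obtain ⟨b, rfl⟩ := mem_im.1 ha
    refine ⟨ρ x⁻¹ b + ρ f (ρ x⁻¹ b), mem_im.2 ⟨_, rfl⟩, ?_⟩
    change ρ x (ρ x⁻¹ b + ρ f (ρ x⁻¹ b)) = _
    rw [map_add, ← rho_mul, mul_inv_cancel, rho_one, ← rho_mul, ← rho_mul]
  · rintro ⟨_, hc, rfl⟩
    obtain ⟨b, rfl⟩ := mem_im.1 hc
    refine mem_im.2 ⟨ρ x b, ?_⟩
    change _ = ρ x (b + ρ f b)
    rw [map_add, ← rho_mul, ← rho_mul]
    congr 3
    group

/-- **(2)**: a 2-subgroup of `N` contains no four-group `⟨f, g⟩` with `[A, f] = [A, g] = [A, fg]`. -/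
theorem no_four (d : AbsD ρ S h Z p) {T : Subgroup N} (hT : IsPGroup 2 T) {f g : N} (hf : f ∈ T) (hg : g ∈ T)
    (hff : f * f = 1) (hgg : g * g = 1) (hfg : f * g = g * f) (hf1 : f ≠ 1)
    (h1 : im ρ f = im ρ g) (h2 : im ρ f = im ρ (g * f)) : False := by
  obtain ⟨x, -, hx⟩ := exists_conj_le (S := S) (M := ⊤) le_top hT le_top
  refine d.no_four_S (hx f hf) (hx g hg) ?_ ?_ ?_ ?_ ?_ ?_
  · calc x * f * x⁻¹ * (x * f * x⁻¹) = x * (f * f) * x⁻¹ := by group
      _ = 1 := by rw [hff]; group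
  · calc x * g * x⁻¹ * (x * g * x⁻¹) = x * (g * g) * x⁻¹ := by group
      _ = 1 := by rw [hgg]; group
  · calc x * f * x⁻¹ * (x * g * x⁻¹) = x * (f * g) * x⁻¹ := by group
      _ = x * g * x⁻¹ * (x * f * x⁻¹) := by rw [hfg]; group
  · intro h3
    apply hf1
    calc f = x⁻¹ * (x * f * x⁻¹) * x := by group
      _ = 1 := by rw [h3]; group
  · rw [im_conj, im_conj, h1]
  · rw [show x * g * x⁻¹ * (x * f * x⁻¹) = x * (g * f) * x⁻¹ by group, im_conj, im_conj, h2]



/-! ### (3) -/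


variable {N A : Type u} [Group N] [Finite N] [AddCommGroup A] [Finite A] {ρ : N →* AddMonoid.End A}
  {S : Sylow 2 N} {k : ℕ} {h : Fin k → N} {Z : Fin k → AddSubgroup A} {p : ℕ}

/-! ### (3)(a) -/

/-- The elements of `N` which commute with all `eps l`. -/
def stabC (ρ : N →* AddMonoid.End A) (h : Fin k → N) : Subgroup N where
  carrier := {n | ∀ l, ρ n * eps ρ h l = eps ρ h l * ρ n}
  one_mem' := fun l => by rw [map_one, one_mul, mul_one]
  mul_mem' := by
    intro a b ha hb l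
    rw [map_mul, mul_assoc, hb l, ← mul_assoc, ha l, mul_assoc]
  inv_mem' := by
    intro a ha l
    have h1 : ρ a⁻¹ * ρ a = 1 := by rw [← map_mul, inv_mul_cancel, map_one]
    have h2 : ρ a * ρ a⁻¹ = 1 := by rw [← map_mul, mul_inv_cancel, map_one]
    calc ρ a⁻¹ * eps ρ h l = ρ a⁻¹ * eps ρ h l * (ρ a * ρ a⁻¹) := by rw [h2, mul_one]
      _ = ρ a⁻¹ * (eps ρ h l * ρ a) * ρ a⁻¹ := by noncomm_ring
      _ = ρ a⁻¹ * (ρ a * eps ρ h l) * ρ a⁻¹ := by rw [ha l]
      _ = (ρ a⁻¹ * ρ a) * eps ρ h l * ρ a⁻¹ := by noncomm_ring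
      _ = eps ρ h l * ρ a⁻¹ := by rw [h1, one_mul]

theorem mem_stabC {n : N} : n ∈ stabC ρ h ↔ ∀ l, ρ n * eps ρ h l = eps ρ h l * ρ n := Iff.rfl

theorem perm_eq (d : AbsD ρ S h Z p) {s : N} {σ : Equiv.Perm (Fin k)} (hs : Perm h s σ) {l : Fin k}
    (hc : ρ s * eps ρ h l = eps ρ h l * ρ s) : σ l = l := by
  by_contra hne
  have h2 : ρ s * ρ s⁻¹ = 1 := by rw [← map_mul, mul_inv_cancel, map_one]
  have h1 : eps ρ h (σ l) = eps ρ h l := by
    calc eps ρ h (σ l) = eps ρ h (σ l) * ρ s * ρ s⁻¹ := by rw [mul_assoc, h2, mul_one]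
      _ = eps ρ h l * ρ s * ρ s⁻¹ := by rw [← conj_eps hs, hc]
      _ = eps ρ h l := by rw [mul_assoc, h2, mul_one]
  obtain ⟨a, ha⟩ := d.eps_ne l
  apply ha
  have h3 := d.eps_orth hne
  rw [h1, d.eps_idem] at h3
  rw [h3]
  rfl

theorem S_le_normalizer (d : AbsD ρ S h Z p) : (S : Subgroup N) ≤ normalizer (stabC ρ h : Set N) := by
  have key : ∀ s ∈ (S : Subgroup N), ∀ n ∈ stabC ρ h, s * n * s⁻¹ ∈ stabC ρ h := by
    intro s hs n hn l
    obtain ⟨σ, hσ⟩ := d.perm s hs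
    obtain ⟨τ, hτ⟩ := d.perm s⁻¹ (inv_mem hs)
    have h1 : σ (τ l) = l := by
      have := d.perm_eq (Perm.mul hσ hτ) (l := l) (by rw [mul_inv_cancel, map_one, one_mul, mul_one])
      exact this
    have h2 : ρ s⁻¹ * eps ρ h l = eps ρ h (τ l) * ρ s⁻¹ := conj_eps hτ l
    have h3 : ρ s * eps ρ h (τ l) = eps ρ h l * ρ s := by rw [conj_eps hσ, h1]
    calc ρ (s * n * s⁻¹) * eps ρ h l = ρ s * ρ n * (ρ s⁻¹ * eps ρ h l) := by
          rw [map_mul, map_mul]; noncomm_ring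
      _ = ρ s * (ρ n * eps ρ h (τ l)) * ρ s⁻¹ := by rw [h2]; noncomm_ring
      _ = (ρ s * eps ρ h (τ l)) * ρ n * ρ s⁻¹ := by rw [hn]; noncomm_ring
      _ = eps ρ h l * ρ (s * n * s⁻¹) := by rw [h3, map_mul, map_mul]; noncomm_ring
  intro s hs
  rw [mem_normalizer_iff]
  intro n
  refine ⟨key s hs n, fun hn => ?_⟩
  have := key s⁻¹ (inv_mem hs) _ hn
  simpa [mul_assoc] using this

/-- (3)(a) -/
theorem mem_S (d : AbsD ρ S h Z p) {W : Subgroup N} (hW : IsPGroup 2 W)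
    (hSW : ∀ s ∈ (S : Subgroup N), (∀ l, ∃ r : ℕ, s * h l * s⁻¹ = h l ^ r) → s ∈ normalizer (W : Set N))
    {w : N} (hw : w ∈ W) (hc : w ∈ stabC ρ h) : w ∈ (S : Subgroup N) := by
  set T : Subgroup N := (S : Subgroup N) ⊓ stabC ρ h with hT
  have hTN : T ≤ normalizer ((W ⊓ stabC ρ h : Subgroup N) : Set N) := by
    rintro s ⟨hs, hs0⟩
    have h1 : s ∈ normalizer (W : Set N) := by
      refine hSW s hs fun l => ?_
      obtain ⟨σ, hσ⟩ := d.perm s hs
      obtain ⟨r, hr⟩ := hσ l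
      exact ⟨r, by rw [hr, d.perm_eq hσ (hs0 l)]⟩
    have h2 := d.S_le_normalizer hs
    rw [mem_normalizer_iff] at h1 h2 ⊢
    intro n
    exact ⟨fun hn => ⟨(h1 n).1 hn.1, (h2 n).1 hn.2⟩, fun hn => ⟨(h1 n).2 hn.1, (h2 n).2 hn.2⟩⟩
  have hT2 : IsPGroup 2 T := S.isPGroup'.to_le inf_le_left
  have hW2 : IsPGroup 2 (W ⊓ stabC ρ h : Subgroup N) := hW.to_le inf_le_left
  have hsup : IsPGroup 2 (T ⊔ (W ⊓ stabC ρ h) : Subgroup N) := hT2.to_sup_of_normal_right' hW2 hTN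
  have hle : T ⊔ (W ⊓ stabC ρ h) ≤ stabC ρ h := sup_le inf_le_right inf_le_right
  obtain ⟨x, hx, hxS⟩ := exists_conj_le (S := S) (M := normalizer (stabC ρ h : Set N)) d.S_le_normalizer hsup
    (hle.trans le_normalizer)
  have h3 : (T ⊔ (W ⊓ stabC ρ h)).map (MulAut.conj x).toMonoidHom ≤ T := by
    rintro _ ⟨t, ht, rfl⟩
    exact ⟨hxS t ht, (mem_normalizer_iff.1 hx t).1 (hle ht)⟩
  have h4 : Nat.card ↥(T ⊔ (W ⊓ stabC ρ h)) ≤ Nat.card T := by
    rw [← card_map_conj (T ⊔ (W ⊓ stabC ρ h)) x]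
    exact Subgroup.card_le_of_le h3
  have h5 : T = T ⊔ (W ⊓ stabC ρ h) := eq_of_le_of_card_ge le_sup_left h4
  have h6 : w ∈ T := by
    rw [h5]
    exact mem_sup_right ⟨hw, hc⟩
  exact h6.1

/-- An element of `W` which commutes with all `eps l` is trivial. -/
theorem eq_one_of_eps (d : AbsD ρ S h Z p) {W : Subgroup N} (hW : IsPGroup 2 W)
    (hh : ∀ l, h l ∈ normalizer (W : Set N))
    (hSW : ∀ s ∈ (S : Subgroup N), (∀ l, ∃ r : ℕ, s * h l * s⁻¹ = h l ^ r) → s ∈ normalizer (W : Set N))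
    {w : N} (hw : w ∈ W) (hc : ∀ l, ρ w * eps ρ h l = eps ρ h l * ρ w) : w = 1 := by
  have hwS : w ∈ (S : Subgroup N) := d.mem_S hW hSW hw hc
  obtain ⟨σ, hσ⟩ := d.perm w hwS
  refine d.field w hwS fun l => ?_
  obtain ⟨r, hr⟩ := hσ l
  rw [d.perm_eq hσ (hc l)] at hr
  have h1 : w * (h l * w⁻¹ * (h l)⁻¹) ∈ W :=
    mul_mem hw ((mem_normalizer_iff.1 (hh l) w⁻¹).1 (inv_mem hw))
  have h2 : w * (h l * w⁻¹ * (h l)⁻¹) = h l ^ r * (h l)⁻¹ := by rw [← hr]; group
  have h3 : (w * (h l * w⁻¹ * (h l)⁻¹)) ^ p = 1 := by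
    rw [h2]
    exact d.DD_pow _ (mul_mem (pow_mem (h_mem_DD h l) r) (inv_mem (h_mem_DD h l)))
  have h4 : w * (h l * w⁻¹ * (h l)⁻¹) = 1 := by
    obtain ⟨n, hn⟩ := hW ⟨_, h1⟩
    have h5 : (w * (h l * w⁻¹ * (h l)⁻¹)) ^ 2 ^ n = 1 := congrArg Subtype.val hn
    have h6 : orderOf (w * (h l * w⁻¹ * (h l)⁻¹)) ∣ Nat.gcd p (2 ^ n) :=
      Nat.dvd_gcd (orderOf_dvd_of_pow_eq_one h3) (orderOf_dvd_of_pow_eq_one h5)
    have h7 : Nat.Coprime p (2 ^ n) :=
      Nat.Coprime.pow_right n ((Nat.coprime_primes d.prime Nat.prime_two).2 d.odd)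
    rw [h7.gcd_eq_one] at h6
    exact orderOf_eq_one_iff.1 (Nat.dvd_one.1 h6)
  calc w * h l = w * (h l * w⁻¹ * (h l)⁻¹) * h l * w := by group
    _ = h l * w := by rw [h4, one_mul]

/-! ### (3)(b) -/

theorem fix_rest (d : AbsD ρ S h Z p) {l a : Fin k} (hla : l ≠ a) {T : AddMonoid.End A}
    (h0 : T * avg ρ (DD h) = avg ρ (DD h)) (hT : ∀ m, m ≠ l → m ≠ a → T * eps ρ h m = eps ρ h m) :
    T * (1 + (eps ρ h l + eps ρ h a)) = 1 + (eps ρ h l + eps ρ h a) := by
  classical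
  have h1 : (1 : AddMonoid.End A) + (eps ρ h l + eps ρ h a) =
      avg ρ (DD h) + ∑ m ∈ (Finset.univ.erase l).erase a, eps ρ h m := by
    have h2 : (1 : AddMonoid.End A) = avg ρ (DD h) + (eps ρ h l + (eps ρ h a +
        ∑ m ∈ (Finset.univ.erase l).erase a, eps ρ h m)) := by
      rw [Finset.add_sum_erase _ _ (Finset.mem_erase.2 ⟨hla.symm, Finset.mem_univ a⟩),
        Finset.add_sum_erase _ _ (Finset.mem_univ l), d.sum_eps]
    calc (1 : AddMonoid.End A) + (eps ρ h l + eps ρ h a)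
        = (eps ρ h l + eps ρ h l) + (eps ρ h a + eps ρ h a) +
          (avg ρ (DD h) + ∑ m ∈ (Finset.univ.erase l).erase a, eps ρ h m) := by
          conv_lhs => rw [h2]
          abel
      _ = _ := by rw [d.add_self', d.add_self', zero_add, zero_add]
  rw [h1, mul_add, h0, Finset.mul_sum]
  congr 1
  refine Finset.sum_congr rfl fun m hm => ?_
  rw [Finset.mem_erase, Finset.mem_erase] at hm
  exact hT m hm.2.1 hm.1

theorem h_eps_apply (d : AbsD ρ S h Z p) {l m : Fin k} (hml : m ≠ l) {c : A} (hc : eps ρ h l c = c) :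
    ρ (h m) c = c := by
  have := congrArg (fun T : AddMonoid.End A => T c) (d.h_mul_eps hml)
  change ρ (h m) (eps ρ h l c) = eps ρ h l c at this
  rwa [hc] at this

theorem mem_zpowers_pow (d : AbsD ρ S h Z p) {a : Fin k} {n : ℕ} (hn : ¬ p ∣ n) : h a ∈ zpowers (h a ^ n) := by
  have hcop : Nat.Coprime n p := ((Nat.Prime.coprime_iff_not_dvd d.prime).2 hn).symm
  obtain ⟨m, hm⟩ := exists_pow_eq_self_of_coprime (x := h a) (n := n) (by rw [d.orderOf_h]; exact hcop)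
  exact ⟨m, by change (h a ^ n) ^ (m : ℤ) = h a; rw [zpow_natCast, hm]⟩

theorem pow_eps_apply (d : AbsD ρ S h Z p) {l a : Fin k} (hla : a ≠ l) (n : ℕ) {c : A} (hc : eps ρ h l c = c) :
    ρ (h a ^ n) c = c :=
  pow_fix (d.h_eps_apply hla hc) ⟨n, zpow_natCast _ _⟩

theorem inv_apply {x : N} {c : A} (hx : ρ x c = c) : ρ x⁻¹ c = c := pow_fix hx ⟨-1, zpow_neg_one _⟩

theorem inv_apply' {x : N} {c : A} (hx : ρ x⁻¹ c = c) : ρ x c = c := by
  have := inv_apply (ρ := ρ) hx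
  rwa [inv_inv] at this

/-- `h l (h a ^ n)⁻¹` is fixed-point-free on `C_l`. -/
theorem fpf_pair (d : AbsD ρ S h Z p) {l a : Fin k} (hla : l ≠ a) {n : ℕ} {c : A}
    (hc : eps ρ h l c = c) (hx : ρ (h l * (h a ^ n)⁻¹) c = c) : c = 0 := by
  refine d.fpf' hc ?_
  rw [rho_mul, inv_apply (d.pow_eps_apply hla.symm n hc)] at hx
  exact hx

/-- `h l (h a ^ n)⁻¹` is fixed-point-free on `C_a`. -/
theorem fpf_pair' (d : AbsD ρ S h Z p) {l a : Fin k} (hla : l ≠ a) {n : ℕ} (hn : ¬ p ∣ n) {c : A}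
    (hc : eps ρ h a c = c) (hx : ρ (h l * (h a ^ n)⁻¹) c = c) : c = 0 := by
  have h1 : h l * (h a ^ n)⁻¹ = (h a ^ n)⁻¹ * h l :=
    d.DD_comm _ (h_mem_DD h l) _ (inv_mem (pow_mem (h_mem_DD h a) n))
  rw [h1, rho_mul, d.h_eps_apply hla hc] at hx
  exact d.fpf' hc (pow_fix (inv_apply' hx) (d.mem_zpowers_pow hn))

theorem pair_mem_DD (l a : Fin k) (n : ℕ) : h l * (h a ^ n)⁻¹ ∈ DD h :=
  mul_mem (h_mem_DD h l) (inv_mem (pow_mem (h_mem_DD h a) n))

theorem eps_pair (d : AbsD ρ S h Z p) {l a : Fin k} (hla : l ≠ a) {n : ℕ} (hn : ¬ p ∣ n) :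
    eps ρ h l + eps ρ h a = 1 + avg ρ (zpowers (h l * (h a ^ n)⁻¹)) := by
  set x := h l * (h a ^ n)⁻¹ with hx
  have hxD : x ∈ DD h := pair_mem_DD l a n
  have hXD : zpowers x ≤ DD h := zpowers_le.2 hxD
  have hcomm : ∀ m, avg ρ (zpowers x) * eps ρ h m = eps ρ h m * avg ρ (zpowers x) := fun m =>
    (commute_avg ρ fun y hy => (d.commute_DD (hXD hy) m).symm).symm
  have hfix : ∀ c, ρ x (avg ρ (zpowers x) c) = avg ρ (zpowers x) c := fun c =>
    fix_avg_apply ρ (mem_zpowers x) c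
  have z1 : avg ρ (zpowers x) * eps ρ h l = 0 := by
    ext c
    refine d.fpf_pair hla (n := n) ?_ (hfix _)
    rw [hcomm]
    exact d.idem_apply l _
  have z2 : avg ρ (zpowers x) * eps ρ h a = 0 := by
    ext c
    refine d.fpf_pair' hla hn ?_ (hfix _)
    rw [hcomm]
    exact d.idem_apply a _
  have z3 : avg ρ (zpowers x) * (1 + (eps ρ h l + eps ρ h a)) = 1 + (eps ρ h l + eps ρ h a) := by
    refine d.fix_rest hla (d.mul_DD hXD) fun m hml hma => ?_
    refine avg_mul_of_fix ρ d.two (d.odd_card hXD) fun y hy => ?_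
    ext c
    refine pow_fix (ρ := ρ) (x := x) ?_ hy
    change ρ x (eps ρ h m c) = eps ρ h m c
    rw [hx, rho_mul, inv_apply (d.pow_eps_apply hma.symm n (d.idem_apply m c)),
      d.h_eps_apply hml.symm (d.idem_apply m c)]
  rw [mul_add, mul_add, z1, z2, mul_one, add_zero, add_zero] at z3
  rw [z3, ← add_assoc, d.add_self', zero_add]

/-- `im` of a product with a surjection. -/
theorem range_eq {T U V : AddMonoid.End A} (h1 : T = U * V) (hV : Function.Surjective V) :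
    AddMonoidHom.range T = AddMonoidHom.range U := by
  apply le_antisymm
  · rintro _ ⟨x, rfl⟩
    exact ⟨V x, by rw [h1]; rfl⟩
  · rintro _ ⟨x, rfl⟩
    obtain ⟨y, rfl⟩ := hV x
    exact ⟨y, by rw [h1]; rfl⟩

theorem real_case (d : AbsD ρ S h Z p) {W : Subgroup N} (hW : IsPGroup 2 W)
    (hh : ∀ l, h l ∈ normalizer (W : Set N)) (hfix : ∀ w ∈ W, (∀ l, w * h l = h l * w) → w = 1)
    {a b : Fin k} {n : Fin k → ℕ} (hba : b ≠ a) (hpb : ¬ p ∣ n b) (hna : n a = 1) {w : N} (hw : w ∈ W)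
    (hw1 : w ≠ 1) (hwc : ∀ l, w * (h l * (h a ^ n l)⁻¹) = (h l * (h a ^ n l)⁻¹) * w) : False := by
  classical
  -- the subgroup `U`
  set U : Subgroup N := W ⊓ centralizer (Set.range fun l => h l * (h a ^ n l)⁻¹) with hU
  have memU : ∀ {y}, y ∈ U ↔ y ∈ W ∧ ∀ l, y * (h l * (h a ^ n l)⁻¹) = (h l * (h a ^ n l)⁻¹) * y := by
    intro y
    rw [hU, mem_inf, mem_centralizer_iff]
    refine and_congr_right fun _ => ⟨fun h1 l => (h1 _ ⟨l, rfl⟩).symm, ?_⟩
    rintro h1 _ ⟨l, rfl⟩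
    exact (h1 l).symm
  have hwU : w ∈ U := memU.2 ⟨hw, hwc⟩
  -- an involution in the centre of `U`
  obtain ⟨u, huU, hu1, huu, hucen⟩ : ∃ u ∈ U, u ≠ 1 ∧ u * u = 1 ∧ ∀ y ∈ U, u * y = y * u := by
    have hU2 : IsPGroup 2 U := hW.to_le inf_le_left
    have : Nontrivial U := ⟨⟨w, hwU⟩, 1, fun h1 => hw1 (congrArg Subtype.val h1)⟩
    have := hU2.center_nontrivial
    have hd : 2 ∣ Nat.card (center U) := by
      have hc2 : IsPGroup 2 (center U) := hU2.to_subgroup _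
      obtain ⟨m, hm⟩ := IsPGroup.iff_card.1 hc2
      have h3 : 1 < Nat.card (center U) := Finite.one_lt_card
      rw [hm] at h3 ⊢
      exact dvd_pow_self 2 (by rintro rfl; simp at h3)
    obtain ⟨c, hc⟩ := exists_prime_orderOf_dvd_card' 2 hd
    refine ⟨((c : U) : N), (c : U).2, ?_, ?_, ?_⟩
    · intro h3
      have : c = 1 := Subtype.ext (Subtype.ext h3)
      rw [this, orderOf_one] at hc
      omega
    · have h3 : c * c = 1 := by rw [← pow_two, ← hc]; exact pow_orderOf_eq_one c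
      exact congrArg (fun z : center U => ((z : U) : N)) h3
    · intro y hy
      have h3 := mem_center_iff.1 c.2 ⟨y, hy⟩
      exact (congrArg (fun z : U => (z : N)) h3).symm
  -- `t`, `dd`
  set t : N := h a ^ n b with ht
  have htD : t ∈ DD h := pow_mem (h_mem_DD h a) _
  have htU : ∀ y ∈ U, t * y * t⁻¹ ∈ U := by
    intro y hy
    obtain ⟨hyW, hyc⟩ := memU.1 hy
    refine memU.2 ⟨?_, fun l => ?_⟩
    · exact (mem_normalizer_iff.1 (pow_mem (hh a) (n b)) y).1 hyW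
    · have h3 : t * (h l * (h a ^ n l)⁻¹) = (h l * (h a ^ n l)⁻¹) * t :=
        d.DD_comm _ htD _ (pair_mem_DD l a (n l))
      have h4 : t⁻¹ * (h l * (h a ^ n l)⁻¹) = (h l * (h a ^ n l)⁻¹) * t⁻¹ :=
        d.DD_comm _ (inv_mem htD) _ (pair_mem_DD l a (n l))
      calc t * y * t⁻¹ * (h l * (h a ^ n l)⁻¹) = t * y * (t⁻¹ * (h l * (h a ^ n l)⁻¹)) := by group
        _ = t * (y * (h l * (h a ^ n l)⁻¹)) * t⁻¹ := by rw [h4]; group
        _ = (t * (h l * (h a ^ n l)⁻¹)) * y * t⁻¹ := by rw [hyc l]; group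
        _ = (h l * (h a ^ n l)⁻¹) * (t * y * t⁻¹) := by rw [h3]; group
  have htU' : ∀ y ∈ U, t⁻¹ * y * t ∈ U := by
    intro y hy
    obtain ⟨hyW, hyc⟩ := memU.1 hy
    refine memU.2 ⟨?_, fun l => ?_⟩
    · have := (mem_normalizer_iff.1 (inv_mem (pow_mem (hh a) (n b))) y).1 hyW
      rwa [inv_inv] at this
    · have h3 : t * (h l * (h a ^ n l)⁻¹) = (h l * (h a ^ n l)⁻¹) * t :=
        d.DD_comm _ htD _ (pair_mem_DD l a (n l))
      have h4 : t⁻¹ * (h l * (h a ^ n l)⁻¹) = (h l * (h a ^ n l)⁻¹) * t⁻¹ :=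
        d.DD_comm _ (inv_mem htD) _ (pair_mem_DD l a (n l))
      calc t⁻¹ * y * t * (h l * (h a ^ n l)⁻¹) = t⁻¹ * y * (t * (h l * (h a ^ n l)⁻¹)) := by group
        _ = t⁻¹ * (y * (h l * (h a ^ n l)⁻¹)) * t := by rw [h3]; group
        _ = (t⁻¹ * (h l * (h a ^ n l)⁻¹)) * y * t := by rw [hyc l]; group
        _ = (h l * (h a ^ n l)⁻¹) * (t⁻¹ * y * t) := by rw [h4]; group
  -- `cen y` : `y ∈ Z(U)`
  let cen : N → Prop := fun y => y ∈ U ∧ ∀ z ∈ U, y * z = z * y
  have cen_mul : ∀ {y z}, cen y → cen z → cen (y * z) := by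
    rintro y z ⟨hy, hy'⟩ ⟨hz, hz'⟩
    refine ⟨mul_mem hy hz, fun x hx => ?_⟩
    rw [mul_assoc, hz' x hx, ← mul_assoc, hy' x hx, mul_assoc]
  have cen_conj : ∀ {y}, cen y → cen (t * y * t⁻¹) := by
    rintro y ⟨hy, hy'⟩
    refine ⟨htU y hy, fun x hx => ?_⟩
    have h3 := hy' _ (htU' x hx)
    calc t * y * t⁻¹ * x = t * (y * (t⁻¹ * x * t)) * t⁻¹ := by group
      _ = x * (t * y * t⁻¹) := by rw [h3]; group
  have cu : cen u := ⟨huU, hucen⟩
  have cv : cen (t * u * t⁻¹) := cen_conj cu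
  set v : N := t * u * t⁻¹ with hv
  set b₀ : N := u * v with hb₀
  have cb₀ : cen b₀ := cen_mul cu cv
  set b₁ : N := t * b₀ * t⁻¹ with hb₁
  have cb₁ : cen b₁ := cen_conj cb₀
  have hvv : v * v = 1 := by
    calc v * v = t * (u * u) * t⁻¹ := by rw [hv]; group
      _ = 1 := by rw [huu]; group
  have huv : u * v = v * u := cu.2 v cv.1
  have hb₀2 : b₀ * b₀ = 1 := by
    calc b₀ * b₀ = u * (v * u) * v := by rw [hb₀]; group
      _ = (u * u) * (v * v) := by rw [← huv]; group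
      _ = 1 := by rw [huu, hvv, one_mul]
  have hb₁2 : b₁ * b₁ = 1 := by
    calc b₁ * b₁ = t * (b₀ * b₀) * t⁻¹ := by rw [hb₁]; group
      _ = 1 := by rw [hb₀2]; group
  -- `b₀ ≠ 1`
  have hb₀1 : b₀ ≠ 1 := by
    intro h1
    have h2 : v = u := by
      calc v = (u * u) * v := by rw [huu, one_mul]
        _ = u * b₀ := by rw [hb₀, mul_assoc]
        _ = u := by rw [h1, mul_one]
    have hut : u * t = t * u := by
      calc u * t = v * t := by rw [h2]
        _ = t * u := by rw [hv]; group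
    have hua : u * h a = h a * u := by
      obtain ⟨m, hm⟩ := d.mem_zpowers_pow (a := a) hpb
      have h3 : (h a ^ n b) ^ m = h a := hm
      rw [← h3]
      exact ((show Commute u (h a ^ n b) from hut).zpow_right m)
    have hul : ∀ l, u * h l = h l * u := by
      intro l
      have h3 := (memU.1 huU).2 l
      have h4 : u * h a ^ n l = h a ^ n l * u := (show Commute u (h a) from hua).pow_right (n l)
      calc u * h l = u * (h l * (h a ^ n l)⁻¹) * h a ^ n l := by group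
        _ = (h l * (h a ^ n l)⁻¹) * (u * h a ^ n l) := by rw [h3]; group
        _ = h l * u := by rw [h4]; group
    exact hu1 (hfix u (memU.1 huU).1 hul)
  -- `dd = t (h b)⁻¹`
  set dd : N := t * (h b)⁻¹ with hdd
  have hddD : dd ∈ DD h := mul_mem htD (inv_mem (h_mem_DD h b))
  have hdd' : dd⁻¹ = h b * (h a ^ n b)⁻¹ := by rw [hdd, ht]; group
  have hddc : ∀ y ∈ U, dd * y = y * dd := by
    intro y hy
    have h3 := (memU.1 hy).2 b
    rw [← hdd'] at h3
    calc dd * y = dd * (y * dd⁻¹) * dd := by group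
      _ = y * dd := by rw [h3]; group
  have R1 : ∀ {x y : N}, x * y = y * x → ρ x * ρ y = ρ y * ρ x := by
    intro x y hxy
    rw [← map_mul, hxy, map_mul]
  -- fixed points
  have fe : ∀ c, eps ρ h a c = c → ρ dd c = c → c = 0 := by
    intro c hc hx
    refine d.fpf_pair' hba hpb hc ?_
    rw [← hdd']
    exact inv_apply hx
  have ff : ∀ c, eps ρ h b c = c → ρ dd c = c → c = 0 := by
    intro c hc hx
    refine d.fpf_pair hba (n := n b) hc ?_
    rw [← hdd']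
    exact inv_apply hx
  have sq : ∀ c, ρ dd (ρ dd c) = c → ρ dd c = c := by
    intro c hc
    have h1 : ρ (dd ^ 2) c = c := by rw [pow_two, rho_mul, hc]
    refine pow_fix h1 ?_
    obtain ⟨m, hm⟩ := d.prime.odd_of_ne_two d.odd
    refine ⟨(m + 1 : ℕ), ?_⟩
    change (dd ^ 2) ^ ((m + 1 : ℕ) : ℤ) = dd
    rw [zpow_natCast, ← pow_mul, show 2 * (m + 1) = p + 1 by omega, pow_succ, d.DD_pow dd hddD, one_mul]
  have hab : a ≠ b := hba.symm
  obtain ⟨⟨o1, o2⟩, ⟨o3, o4⟩, ⟨o5, o6, o7⟩, -⟩ :=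
    core (R := AddMonoid.End A) (End_two d.two) (e := eps ρ h a) (f := eps ρ h b) (u := ρ u) (D := ρ dd)
      (D' := ρ dd⁻¹) (H := ρ t) (H' := ρ t⁻¹) (b₀ := ρ b₀) (b₁ := ρ b₁)
      (d.eps_idem a) (d.eps_idem b) (d.eps_orth hab) (d.eps_orth hba)
      (by rw [← map_mul, huu, map_one])
      (by
        rw [add_comm (eps ρ h a), d.eps_pair hba hpb, mul_add, add_mul, mul_one, one_mul]
        congr 1
        refine commute_avg ρ fun y hy => ?_
        refine R1 ?_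
        obtain ⟨m, rfl⟩ := hy
        exact (show Commute u (h b * (h a ^ n b)⁻¹) from (memU.1 huU).2 b).zpow_right m)
      (by rw [← map_mul, mul_inv_cancel, map_one]) (by rw [← map_mul, inv_mul_cancel, map_one])
      (d.commute_DD hddD a) (d.commute_DD hddD b) (R1 (hddc u huU)) (R1 (d.DD_comm _ hddD _ htD))
      (R1 (d.DD_comm _ hddD _ (inv_mem htD)))
      (by rw [← map_mul, inv_mul_cancel, map_one])
      (by
        ext c
        change ρ t (eps ρ h a c) = ρ dd (eps ρ h a c)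
        rw [hdd, rho_mul, inv_apply (d.h_eps_apply hba (d.idem_apply a c))])
      (by
        ext c
        exact d.pow_eps_apply hab (n b) (d.idem_apply b c))
      (d.fix_rest hab (left_avg ρ htD) fun m hma hmb => by
        ext c
        exact d.pow_eps_apply hma.symm (n b) (d.idem_apply m c))
      (by
        rw [← map_mul, ← map_mul, ← map_mul, ← map_mul]
        exact congrArg ρ huv)
      (fun T h1 h2 => by
        ext c
        exact fe _ (congrArg (fun T : AddMonoid.End A => T c) h1) (congrArg (fun T : AddMonoid.End A => T c) h2))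
      (fun T h1 h2 => by
        ext c
        exact ff _ (congrArg (fun T : AddMonoid.End A => T c) h1) (congrArg (fun T : AddMonoid.End A => T c) h2))
      (fun T h1 h2 => by
        ext c
        exact fe _ (congrArg (fun T : AddMonoid.End A => T c) h1)
          (sq _ (congrArg (fun T : AddMonoid.End A => T c) h2)))
      (fun T h1 h2 => by
        ext c
        exact ff _ (congrArg (fun T : AddMonoid.End A => T c) h1)
          (sq _ (congrArg (fun T : AddMonoid.End A => T c) h2)))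
      (by rw [hb₀, hv, map_mul, map_mul, map_mul]) (by rw [hb₁, map_mul, map_mul])
  -- the images
  set e := eps ρ h a with he
  set f := eps ρ h b with hf
  set D := ρ dd with hD
  set D' := ρ dd⁻¹ with hD'
  have ee : e * e = e := d.eps_idem a
  have ff' : f * f = f := d.eps_idem b
  have ef : e * f = 0 := d.eps_orth hab
  have fe' : f * e = 0 := d.eps_orth hba
  have DD1 : D * D' = 1 := by rw [hD, hD', ← map_mul, mul_inv_cancel, map_one]
  have DD2 : D' * D = 1 := by rw [hD, hD', ← map_mul, inv_mul_cancel, map_one]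
  have De : D * e = e * D := d.commute_DD hddD a
  have Df : D * f = f * D := d.commute_DD hddD b
  have De' : D' * e = e * D' := d.commute_DD (inv_mem hddD) a
  have Df' : D' * f = f * D' := d.commute_DD (inv_mem hddD) b
  have hdi : ∀ y ∈ U, dd⁻¹ * y = y * dd⁻¹ := by
    intro y hy
    have := hddc y hy
    calc dd⁻¹ * y = dd⁻¹ * (y * dd) * dd⁻¹ := by group
      _ = y * dd⁻¹ := by rw [← this]; group
  have Db : D * (1 + ρ b₀) = (1 + ρ b₀) * D := by
    rw [mul_add, add_mul, mul_one, one_mul, R1 (hddc b₀ cb₀.1)]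
  have Db' : D' * (1 + ρ b₀) = (1 + ρ b₀) * D' := by
    rw [mul_add, add_mul, mul_one, one_mul, R1 (hdi b₀ cb₀.1)]
  have split : ∀ T : AddMonoid.End A, T * (1 + (e + f)) = 0 → T = T * e + T * f := by
    intro T hT
    calc T = T + (T * (e + f) + T * (e + f)) := by rw [d.add_self', add_zero]
      _ = T * (1 + (e + f)) + (T * e + T * f) := by noncomm_ring
      _ = T * e + T * f := by rw [hT, zero_add]
  have surj : ∀ E F : AddMonoid.End A, e * E = E * e → f * F = F * f →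
      (∀ c, e c = c → E c = 0 → c = 0) → (∀ c, f c = c → F c = 0 → c = 0) →
      Function.Surjective ⇑(E * e + F * f + (1 + (e + f)) : AddMonoid.End A) := by
    intro E F hE hF hE0 hF0
    refine Finite.surjective_of_injective ?_
    rw [injective_iff_map_eq_zero]
    intro x hx
    have ex : e * (E * e + F * f + (1 + (e + f))) = E * e := by
      have k1 : e * (E * e) = E * e := by rw [← mul_assoc, hE, mul_assoc, ee]
      have k2 : e * (F * f) = 0 := by rw [← hF, ← mul_assoc, ef, zero_mul]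
      have k3 : e * (1 + (e + f)) = 0 := by rw [mul_add, mul_add, ee, ef, mul_one, add_zero, d.add_self']
      rw [mul_add, mul_add, k1, k2, k3, add_zero, add_zero]
    have fx : f * (E * e + F * f + (1 + (e + f))) = F * f := by
      have k1 : f * (F * f) = F * f := by rw [← mul_assoc, hF, mul_assoc, ff']
      have k2 : f * (E * e) = 0 := by rw [← hE, ← mul_assoc, fe', zero_mul]
      have k3 : f * (1 + (e + f)) = 0 := by rw [mul_add, mul_add, ff', fe', mul_one, zero_add, d.add_self']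
      rw [mul_add, mul_add, k1, k2, k3, add_zero, zero_add]
    have h1 : E (e x) = 0 := by
      have := congrArg (fun T : AddMonoid.End A => T x) ex
      change e ((E * e + F * f + (1 + (e + f)) : AddMonoid.End A) x) = E (e x) at this
      rw [← this, hx, map_zero]
    have h2 : F (f x) = 0 := by
      have := congrArg (fun T : AddMonoid.End A => T x) fx
      change f ((E * e + F * f + (1 + (e + f)) : AddMonoid.End A) x) = F (f x) at this
      rw [← this, hx, map_zero]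
    have h3 : e x = 0 := hE0 _ (d.idem_apply a x) h1
    have h4 : f x = 0 := hF0 _ (d.idem_apply b x) h2
    have h5 : E (e x) + F (f x) + (x + (e x + f x)) = 0 := hx
    rw [h3, h4, map_zero, map_zero, zero_add, zero_add, add_zero] at h5
    exact h5
  have zero_of : ∀ (i : Fin k) (T T' : AddMonoid.End A), T' * T = 1 → ∀ c, T c = 0 → c = 0 := by
    intro i T T' hT c hc
    have := congrArg (fun T : AddMonoid.End A => T c) hT
    change T' (T c) = c at this
    rw [← this, hc, map_zero]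
  have him1 : im ρ b₁ = im ρ b₀ := by
    refine range_eq (T := 1 + ρ b₁) (U := 1 + ρ b₀) (V := D' * e + D * f + (1 + (e + f))) ?_
      (surj D' D De'.symm Df.symm (fun c _ => zero_of a D' D DD1 c) (fun c _ => zero_of a D D' DD2 c))
    calc 1 + ρ b₁ = (1 + ρ b₁) * e + (1 + ρ b₁) * f := split _ o6
      _ = D' * (1 + ρ b₀) * e + D * (1 + ρ b₀) * f := by rw [o1, o2]; noncomm_ring
      _ = (1 + ρ b₀) * (D' * e + D * f) + 0 := by rw [Db, Db']; noncomm_ring
      _ = (1 + ρ b₀) * (D' * e + D * f + (1 + (e + f))) := by rw [← o5]; noncomm_ring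
  have him2 : im ρ (b₀ * b₁) = im ρ b₀ := by
    refine range_eq (T := 1 + ρ (b₀ * b₁)) (U := 1 + ρ b₀)
      (V := (1 + D') * e + (1 + D) * f + (1 + (e + f))) ?_
      (surj (1 + D') (1 + D) (by rw [mul_add, add_mul, De', mul_one, one_mul])
        (by rw [mul_add, add_mul, Df, mul_one, one_mul]) ?_ ?_)
    · rw [map_mul]
      calc 1 + ρ b₀ * ρ b₁ = (1 + ρ b₀ * ρ b₁) * e + (1 + ρ b₀ * ρ b₁) * f := split _ o7
        _ = (1 + D') * (1 + ρ b₀) * e + (1 + D) * (1 + ρ b₀) * f := by rw [o3, o4]; noncomm_ring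
        _ = (1 + ρ b₀) * e + D' * (1 + ρ b₀) * e + ((1 + ρ b₀) * f + D * (1 + ρ b₀) * f) := by noncomm_ring
        _ = (1 + ρ b₀) * ((1 + D') * e + (1 + D) * f) + 0 := by rw [Db, Db']; noncomm_ring
        _ = (1 + ρ b₀) * ((1 + D') * e + (1 + D) * f + (1 + (e + f))) := by rw [← o5]; noncomm_ring
    · intro c hc h1
      have h2 : c + ρ dd⁻¹ c = 0 := h1
      refine fe c hc (inv_apply' ?_)
      calc ρ dd⁻¹ c = (c + c) + ρ dd⁻¹ c := by rw [d.two, zero_add]
        _ = c := by rw [add_assoc, h2, add_zero]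
    · intro c hc h1
      have h2 : c + ρ dd c = 0 := h1
      refine ff c hc ?_
      calc ρ dd c = (c + c) + ρ dd c := by rw [d.two, zero_add]
        _ = c := by rw [add_assoc, h2, add_zero]
  exact d.no_four hW (f := b₀) (g := b₁) (memU.1 cb₀.1).1 (memU.1 cb₁.1).1 hb₀2 hb₁2 (cb₀.2 b₁ cb₁.1) hb₀1
    him1.symm (by rw [← cb₀.2 b₁ cb₁.1, him2])

/-- **THEOREM C with `D`, case `q ≥ 4`, in `N = N_G(E) / C_G(E)`.** -/
theorem main (d : AbsD ρ S h Z p) {W : Subgroup N} (hW : IsPGroup 2 W)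
    (hh : ∀ l, h l ∈ normalizer (W : Set N))
    (hSW : ∀ s ∈ (S : Subgroup N), (∀ l, ∃ r : ℕ, s * h l * s⁻¹ = h l ^ r) → s ∈ normalizer (W : Set N))
    (hone : ∀ a, ∀ w ∈ W, (∀ l, l ≠ a → w * h l = h l * w) → w = 1) : W = ⊥ := by
  by_contra hne
  have hfix : ∀ w ∈ W, (∀ l, w * h l = h l * w) → w = 1 := fun w hw hc =>
    d.eq_one_of_eps hW hh hSW hw fun l => d.commute_eps (hc l)
  obtain ⟨a, n, hna, w, hw, hw1, hwc⟩ := exists_hyperplane d.prime d.odd d.hcomm d.hp hW hne hh hfix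
  by_cases hb : ∃ b, b ≠ a ∧ ¬ p ∣ n b
  · obtain ⟨b, hba, hpb⟩ := hb
    exact d.real_case hW hh hfix hba hpb hna hw hw1 hwc
  · push Not at hb
    refine hw1 (hone a w hw fun l hla => ?_)
    obtain ⟨m, hm⟩ := hb l hla
    have h1 := hwc l
    have h2 : h a ^ n l = 1 := by rw [hm, pow_mul, d.hp, one_pow]
    rwa [h2, inv_one, mul_one] at h1

/-- an element of `W` which lies in `S` and normalises all `Z l` is trivial -/
theorem eq_one_of_Z (d : AbsD ρ S h Z p) {W : Subgroup N} (hW : IsPGroup 2 W)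
    (hh : ∀ l, h l ∈ normalizer (W : Set N))
    (hSW : ∀ s ∈ (S : Subgroup N), (∀ l, ∃ r : ℕ, s * h l * s⁻¹ = h l ^ r) → s ∈ normalizer (W : Set N))
    {w : N} (hw : w ∈ W) (hwS : w ∈ (S : Subgroup N)) (hZ : ∀ l, ∀ z ∈ Z l, ρ w z ∈ Z l) : w = 1 := by
  obtain ⟨σ, hσ⟩ := d.perm w hwS
  refine d.eq_one_of_eps hW hh hSW hw fun l => ?_
  have hσl : σ l = l := by
    by_contra hne
    obtain ⟨a, ha⟩ := AddSubgroup.ne_bot_iff_exists_ne_zero.1 (d.Zne l)
    have h1 : ρ w (eps ρ h l (a : A)) = eps ρ h (σ l) (ρ w (a : A)) := conj_eps_apply (ρ := ρ) hσ l (a : A)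
    rw [d.eps_Z a.2, d.eps_Z' hne (hZ l a a.2)] at h1
    apply ha
    apply Subtype.ext
    have h2 : ρ w⁻¹ (ρ w (a : A)) = (a : A) := by rw [← rho_mul, inv_mul_cancel, rho_one]
    rw [h1, map_zero] at h2
    exact h2.symm
  rw [conj_eps hσ, hσl]

end AbsD

end Cfsg.Agent.Omega.IId.ThmCD.Four
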