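import Cfsg.Agent.Omega.Half.Blocks

/-!
# THEOREM C without induction (bb OMEGA #17979 (A6), helper74; #19448): the levels

A 2-group `T` acts transitively on the finite set `ι`, `j, j' ≠ o`.

* `levels` : there is `Γ ⊆ ι`, not empty, such that `s j, s j' ∉ Γ` whenever `s o ∈ Γ`, and the set of all these `s j`,
  `s j'` has at least `|ι| / 2` elements.
-/

set_option autoImplicit false

namespace Cfsg.Agent.Omega.IId.ThmCD

open Subgroup
open Cfsg.Agent.Omega.Half (exists_index_two mul_mem_of_index_two)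

variable {T : Type*} [Group T]

/-- Half of a group: one `H`-coset in each `K`-coset. -/
theorem exists_half {H K : Subgroup T} (h2 : H.relIndex K = 2) (hHK : H ≤ K) :
    ∃ X : Set T, (∀ s ∈ X, ∀ h ∈ H, s * h ∈ X) ∧ ∀ s, ∀ k ∈ K, k ∉ H → (s * k ∈ X ↔ s ∉ X) := by
  classical
  let ρ : T → T := fun s => (Quotient.out (s : T ⧸ K))⁻¹ * s
  have hρK : ∀ s, ρ s ∈ K := fun s => by
    have h1 : ((Quotient.out (s : T ⧸ K) : T) : T ⧸ K) = (s : T ⧸ K) := Quotient.out_eq' _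
    exact QuotientGroup.eq.1 h1
  have hρ : ∀ s, ∀ k ∈ K, ρ (s * k) = ρ s * k := fun s k hk => by
    have h1 : ((s * k : T) : T ⧸ K) = (s : T ⧸ K) := QuotientGroup.mk_mul_of_mem s hk
    change (Quotient.out ((s * k : T) : T ⧸ K))⁻¹ * (s * k) = _
    rw [h1, ← mul_assoc]
  refine ⟨{s | ρ s ∈ H}, fun s hs h hh => ?_, fun s k hk hkH => ?_⟩
  · change ρ (s * h) ∈ H
    rw [hρ s h (hHK hh)]
    exact mul_mem hs hh
  · change ρ (s * k) ∈ H ↔ ¬ ρ s ∈ H
    rw [hρ s k hk, mul_mem_of_index_two h2 (hρK s) hk]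
    tauto

/-- The number of elements of a half. -/
theorem half_card [Finite T] {X Y : Set T} {k : T} (hXY : X ⊆ Y) (h1 : ∀ s ∈ Y, s * k ∈ Y)
    (h2 : ∀ s ∈ Y, (s * k ∈ X ↔ s ∉ X)) : Y.ncard = 2 * X.ncard := by
  have hf1 : (Y \ X).ncard ≤ X.ncard := by
    refine Set.ncard_le_ncard_of_injOn (fun s => s * k) ?_ (mul_left_injective k).injOn (Set.toFinite _)
    rintro s ⟨hs, hsX⟩
    exact (h2 s hs).2 hsX
  have hf2 : X.ncard ≤ (Y \ X).ncard := by
    refine Set.ncard_le_ncard_of_injOn (fun s => s * k) ?_ (mul_left_injective k).injOn (Set.toFinite _)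
    intro s hs
    exact ⟨h1 s (hXY hs), fun h => (h2 s (hXY hs)).1 h hs⟩
  have h3 := Set.ncard_sdiff_add_ncard_of_subset hXY (Set.toFinite _)
  omega

theorem card_mul_relIndex_of_le {H K : Subgroup T} (h : H ≤ K) : Nat.card H * H.relIndex K = Nat.card K := by
  have h1 := relIndex_mul_relIndex ⊥ H K bot_le h
  rwa [relIndex_bot_left, relIndex_bot_left] at h1

/-- one element -/
theorem one_level [Finite T] (hT : IsPGroup 2 T) {H₀ : Subgroup T} {g : T} (hg : g ∉ H₀) :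
    ∀ (n : ℕ) (K : Subgroup T), Nat.card K ≤ n → H₀ ≤ K → g ∈ K →
      ∃ H L : Subgroup T, H₀ ≤ H ∧ H ≤ L ∧ L ≤ K ∧ H.relIndex L = 2 ∧ g ∈ L ∧ g ∉ H := by
  intro n
  induction n with
  | zero => intro K hK; have := Nat.card_pos (α := K); omega
  | succ n ih =>
    intro K hK h0 hgK
    obtain ⟨M, hM1, hM2, hM3⟩ := exists_index_two (hT.to_subgroup K) h0 (fun h => hg (h hgK))
    by_cases hgM : g ∈ M
    · have hlt : Nat.card M < Nat.card K := by
        have h1 := card_mul_relIndex_of_le hM2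
        rw [hM3] at h1
        have := Nat.card_pos (α := M)
        omega
      obtain ⟨H, L, a1, a2, a3, a4, a5, a6⟩ := ih M (by omega) hM1 hgM
      exact ⟨H, L, a1, a2, a3.trans hM2, a4, a5, a6⟩
    · exact ⟨M, K, hM1, hM2, le_rfl, hM3, hgK, hgM⟩

/-- two elements -/
theorem two_levels [Finite T] (hT : IsPGroup 2 T) {H₀ : Subgroup T} {g g' : T} (hg : g ∉ H₀) (hg' : g' ∉ H₀) :
    ∀ (n : ℕ) (K : Subgroup T), Nat.card K ≤ n → H₀ ≤ K → g ∈ K → g' ∈ K →
      (∃ H L : Subgroup T, H₀ ≤ H ∧ H ≤ L ∧ H.relIndex L = 2 ∧ g ∈ L ∧ g ∉ H ∧ g' ∈ L ∧ g' ∉ H) ∨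
      (∃ H L H' L' : Subgroup T, H₀ ≤ H ∧ H ≤ L ∧ L ≤ H' ∧ H' ≤ L' ∧ H.relIndex L = 2 ∧ H'.relIndex L' = 2 ∧
        g ∈ L ∧ g ∉ H ∧ g' ∈ L' ∧ g' ∉ H') ∨
      (∃ H L H' L' : Subgroup T, H₀ ≤ H ∧ H ≤ L ∧ L ≤ H' ∧ H' ≤ L' ∧ H.relIndex L = 2 ∧ H'.relIndex L' = 2 ∧
        g' ∈ L ∧ g' ∉ H ∧ g ∈ L' ∧ g ∉ H') := by
  intro n
  induction n with
  | zero => intro K hK; have := Nat.card_pos (α := K); omega
  | succ n ih =>
    intro K hK h0 hgK hgK'
    obtain ⟨M, hM1, hM2, hM3⟩ := exists_index_two (hT.to_subgroup K) h0 (fun h => hg (h hgK))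
    have hlt : Nat.card M < Nat.card K := by
      have h1 := card_mul_relIndex_of_le hM2
      rw [hM3] at h1
      have := Nat.card_pos (α := M)
      omega
    by_cases hgM : g ∈ M
    · by_cases hgM' : g' ∈ M
      · exact ih M (by omega) hM1 hgM hgM'
      · obtain ⟨H, L, a1, a2, a3, a4, a5, a6⟩ := one_level hT hg _ M le_rfl hM1 hgM
        exact Or.inr (Or.inl ⟨H, L, M, K, a1, a2, a3, hM2, a4, hM3, a5, a6, hgK', hgM'⟩)
    · by_cases hgM' : g' ∈ M
      · obtain ⟨H, L, a1, a2, a3, a4, a5, a6⟩ := one_level hT hg' _ M le_rfl hM1 hgM'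
        exact Or.inr (Or.inr ⟨H, L, M, K, a1, a2, a3, hM2, a4, hM3, a5, a6, hgK, hgM⟩)
      · exact Or.inl ⟨M, K, hM1, hM2, hM3, hgK, hgM, hgK', hgM'⟩

/-- the set `X` -/
theorem exists_X [Finite T] (hT : IsPGroup 2 T) {H₀ : Subgroup T} {g g' : T} (hg : g ∉ H₀) (hg' : g' ∉ H₀) :
    ∃ X : Set T, X.Nonempty ∧ (∀ s ∈ X, ∀ h ∈ H₀, s * h ∈ X) ∧ (∀ s ∈ X, s * g ∉ X ∧ s * g' ∉ X) ∧
      Nat.card T ≤ 2 * ((fun s => s * g) '' X ∪ (fun s => s * g') '' X).ncard := by
  have hpos : 0 < Nat.card T := Nat.card_pos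
  have huniv : (Set.univ : Set T).ncard = Nat.card T := Set.ncard_univ T
  have himg : ∀ (X : Set T) (g : T), ((fun s => s * g) '' X).ncard = X.ncard := fun X g =>
    Set.ncard_image_of_injective X (mul_left_injective g)
  -- the nested case
  have key : ∀ g g' : T, (∃ H L H' L' : Subgroup T, H₀ ≤ H ∧ H ≤ L ∧ L ≤ H' ∧ H' ≤ L' ∧ H.relIndex L = 2 ∧
      H'.relIndex L' = 2 ∧ g ∈ L ∧ g ∉ H ∧ g' ∈ L' ∧ g' ∉ H') →
      ∃ X : Set T, X.Nonempty ∧ (∀ s ∈ X, ∀ h ∈ H₀, s * h ∈ X) ∧ (∀ s ∈ X, s * g ∉ X ∧ s * g' ∉ X) ∧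
      Nat.card T ≤ 2 * ((fun s => s * g) '' X ∪ (fun s => s * g') '' X).ncard := by
    rintro g g' ⟨H, L, H', L', a1, a2, a3, a4, a5, a6, a7, a8, a9, a10⟩
    obtain ⟨X, hX1, hX2⟩ := exists_half a5 a2
    obtain ⟨X', hX1', hX2'⟩ := exists_half a6 a4
    have hc' : Nat.card T = 2 * X'.ncard := by
      rw [← huniv]
      exact half_card (k := g') (Set.subset_univ _) (fun _ _ => Set.mem_univ _) (fun s _ => hX2' s g' a9 a10)
    have hc : X'.ncard = 2 * (X ∩ X').ncard := by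
      refine half_card (k := g) Set.inter_subset_right (fun s hs => hX1' s hs g (a3 a7)) fun s hs => ?_
      have h1 := hX2 s g a7 a8
      have h2 := hX1' s hs g (a3 a7)
      simp only [Set.mem_inter_iff]
      tauto
    refine ⟨X ∩ X', ?_, ?_, ?_, ?_⟩
    · rw [← Set.ncard_pos (Set.toFinite _)]; omega
    · exact fun s hs h hh => ⟨hX1 s hs.1 h (a1 hh), hX1' s hs.2 h ((a1.trans (a2.trans a3)) hh)⟩
    · exact fun s hs => ⟨fun h => (hX2 s g a7 a8).1 h.1 hs.1, fun h => (hX2' s g' a9 a10).1 h.2 hs.2⟩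
    · rw [Set.ncard_union_eq ?_ (Set.toFinite _) (Set.toFinite _), himg, himg]
      · omega
      · rw [Set.disjoint_left]
        rintro _ ⟨s, hs, rfl⟩ ⟨t, ht, e⟩
        have h1 : s * g ∈ X' := hX1' s hs.2 g (a3 a7)
        have h2 : t * g' ∉ X' := fun h => (hX2' t g' a9 a10).1 h ht.2
        have e' : t * g' = s * g := e
        exact h2 (e' ▸ h1)
  rcases two_levels hT hg hg' _ ⊤ le_rfl le_top (mem_top _) (mem_top _) with h | h | h
  · obtain ⟨H, L, a1, a2, a3, a4, a5, a6, a7⟩ := h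
    obtain ⟨X, hX1, hX2⟩ := exists_half a3 a2
    have hc : Nat.card T = 2 * X.ncard := by
      rw [← huniv]
      exact half_card (k := g) (Set.subset_univ _) (fun _ _ => Set.mem_univ _) (fun s _ => hX2 s g a4 a5)
    refine ⟨X, ?_, fun s hs h hh => hX1 s hs h (a1 hh), fun s hs => ⟨fun h => (hX2 s g a4 a5).1 h hs,
      fun h => (hX2 s g' a6 a7).1 h hs⟩, ?_⟩
    · rw [← Set.ncard_pos (Set.toFinite _)]; omega
    · have h1 : ((fun s => s * g) '' X).ncard ≤ ((fun s => s * g) '' X ∪ (fun s => s * g') '' X).ncard :=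
        Set.ncard_le_ncard Set.subset_union_left (Set.toFinite _)
      rw [himg] at h1
      omega
  · exact key g g' h
  · obtain ⟨X, b1, b2, b3, b4⟩ := key g' g h
    refine ⟨X, b1, b2, fun s hs => (b3 s hs).symm, ?_⟩
    rwa [Set.union_comm] at b4

/-- (A6). -/
theorem levels [Finite T] (hT : IsPGroup 2 T) {ι : Type*} [Finite ι] [MulAction T ι]
    (htr : ∀ a b : ι, ∃ s : T, s • a = b) {o j j' : ι} (hj : j ≠ o) (hj' : j' ≠ o) :
    ∃ Γ : Set ι, (∃ s : T, s • o ∈ Γ) ∧ (∀ s : T, s • o ∈ Γ → s • j ∉ Γ ∧ s • j' ∉ Γ) ∧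
      Nat.card ι ≤ 2 * {i : ι | ∃ s : T, s • o ∈ Γ ∧ (i = s • j ∨ i = s • j')}.ncard := by
  obtain ⟨g, hg⟩ := htr o j
  obtain ⟨g', hg'⟩ := htr o j'
  have hgo : g ∉ MulAction.stabilizer T o := fun h => hj (by rw [← hg]; exact h)
  have hgo' : g' ∉ MulAction.stabilizer T o := fun h => hj' (by rw [← hg']; exact h)
  obtain ⟨X, h1, h2, h3, h4⟩ := exists_X hT hgo hgo'
  set Γ : Set ι := (fun s : T => s • o) '' X with hΓ
  have hmem : ∀ s : T, s • o ∈ Γ ↔ s ∈ X := by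
    intro s
    constructor
    · rintro ⟨t, ht, e⟩
      have h5 : t⁻¹ * s ∈ MulAction.stabilizer T o := by
        rw [MulAction.mem_stabilizer_iff, mul_smul]
        exact inv_smul_eq_iff.2 e.symm
      have := h2 t ht _ h5
      rwa [mul_inv_cancel_left] at this
    · exact fun hs => ⟨s, hs, rfl⟩
  refine ⟨Γ, ?_, ?_, ?_⟩
  · obtain ⟨s, hs⟩ := h1
    exact ⟨s, (hmem s).2 hs⟩
  · intro s hs
    rw [hmem] at hs
    rw [← hg, ← hg', ← mul_smul, ← mul_smul, hmem, hmem]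
    exact h3 s hs
  · set J : Set ι := {i : ι | ∃ s : T, s • o ∈ Γ ∧ (i = s • j ∨ i = s • j')} with hJ
    set N : ℕ := Nat.card (MulAction.stabilizer T o) with hN
    have hNpos : 0 < N := Nat.card_pos
    -- `|T| = |ι| N`
    have hT1 : Nat.card T = Nat.card ι * N := by
      have h5 : (MulAction.stabilizer T o).index = Nat.card ι := by
        rw [MulAction.index_stabilizer]
        have h6 : MulAction.orbit T o = Set.univ := by
          rw [Set.eq_univ_iff_forall]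
          intro b
          obtain ⟨s, hs⟩ := htr o b
          exact ⟨s, hs⟩
        rw [h6, Set.ncard_univ]
      have h6 := (MulAction.stabilizer T o).card_mul_index
      rw [h5] at h6
      rw [← h6, mul_comm]
    -- preimages
    have hfib : ∀ F : Set ι, ((fun s : T => s • o) ⁻¹' F).ncard ≤ F.ncard * N := by
      intro F
      classical
      have hfin : F.Finite := Set.toFinite F
      induction F, hfin using Set.Finite.induction_on with
      | empty => simp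
      | @insert a F ha hF ih =>
        rw [Set.ncard_insert_of_notMem ha hF, add_mul, one_mul, ← Set.union_singleton, Set.preimage_union]
        refine (Set.ncard_union_le _ _).trans (Nat.add_le_add ih ?_)
        obtain ⟨t, rfl⟩ := htr o a
        have h5 : (fun s : T => s • o) ⁻¹' {t • o} ⊆ (fun s => t * s) '' (MulAction.stabilizer T o : Set T) := by
          intro s hs
          refine ⟨t⁻¹ * s, ?_, mul_inv_cancel_left t s⟩
          rw [SetLike.mem_coe, MulAction.mem_stabilizer_iff, mul_smul]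
          exact inv_smul_eq_iff.2 hs
        refine (Set.ncard_le_ncard h5 (Set.toFinite _)).trans ?_
        refine (Set.ncard_image_le (Set.toFinite _)).trans ?_
        rw [hN, ← Nat.card_coe_set_eq]
        exact le_rfl
    have h5 : ((fun s => s * g) '' X ∪ (fun s => s * g') '' X) ⊆ (fun s : T => s • o) ⁻¹' J := by
      rintro _ (⟨s, hs, rfl⟩ | ⟨s, hs, rfl⟩)
      · exact ⟨s, (hmem s).2 hs, Or.inl (by rw [← hg, ← mul_smul])⟩
      · exact ⟨s, (hmem s).2 hs, Or.inr (by rw [← hg', ← mul_smul])⟩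
    have h6 := (Set.ncard_le_ncard h5 (Set.toFinite _)).trans (hfib J)
    have h7 : Nat.card ι * N ≤ 2 * J.ncard * N := by
      rw [← hT1]
      calc Nat.card T ≤ 2 * ((fun s => s * g) '' X ∪ (fun s => s * g') '' X).ncard := h4
        _ ≤ 2 * (J.ncard * N) := by omega
        _ = 2 * J.ncard * N := by ring
    exact Nat.le_of_mul_le_mul_right h7 hNpos

end Cfsg.Agent.Omega.IId.ThmCD
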