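import Cfsg.Agent.Omega.IId.ThmCD.Kk

/-!
# THEOREM C with `D`, `q = 2` (bb OMEGA 19448), (A3), (A4): `W'/K` on `Ω₁Z(KQ)` satisfies `TwoW.WDat`

The index `o` of `TwoW.WDat` takes everything fixed by all `x l`, `l ≠ o` (`D⁺` included).
-/

set_option autoImplicit false
set_option linter.unusedSectionVars false

namespace Cfsg.Agent.Omega.IId.ThmCD

open scoped Pointwise
open Subgroup Cfsg Cfsg.Agent.MinSimple.VModule Cfsg.Agent.Omega.ThmC
open Cfsg.Agent.ZN (zc o2)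
open Cfsg.Agent.Omega.IITwo.Count (conj_mem conj_mem' mem_norm)
open Cfsg.Agent.Omega.ThmC.Dat (KQ Wp Wp_le Wp_nor_ZK CX mem_CX)

universe u

variable {G : Type u} [Group G]

namespace DatD

variable {S : Sylow 2 G} {Q : Subgroup G} {ι : Type} {Z : ι → Subgroup G} {x z : ι → G}

/-! ### projections on `Md X`, `zc X ≤ zc Q` -/

section proj

variable (D : DatD S Q Z x z)

/-- `π l` on `Md X`. -/
def pX (D : DatD S Q Z x z) {X : Subgroup G} (hX : zc X ≤ zc Q)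
    (h : ∀ l, ∀ v ∈ zc X, pr (x l) v ∈ zc X) (l : ι) : Md X →+ Md X :=
  Md.lft (pr (x l)) (h l) (fun _ hv _ hw => pr_mul (D.xN l) (hX hv) (hX hw))

variable {X : Subgroup G} {hX : zc X ≤ zc Q} {h : ∀ l, ∀ v ∈ zc X, pr (x l) v ∈ zc X}

@[simp] theorem val_pX (l : ι) (a : Md X) : (D.pX hX h l a).val = pr (x l) a.val := rfl

theorem inc_pX (l : ι) (a : Md X) : Md.inc hX (D.pX hX h l a) = D.pi l (Md.inc hX a) := rfl

theorem pX_idem (l : ι) (a : Md X) : D.pX hX h l (D.pX hX h l a) = D.pX hX h l a :=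
  Md.inc_inj hX (by rw [inc_pX, inc_pX, D.pi_idem])

theorem pX_orth {l m : ι} (hlm : l ≠ m) (a : Md X) : D.pX hX h l (D.pX hX h m a) = 0 :=
  Md.inc_inj hX (by rw [inc_pX, inc_pX, D.pi_orth hlm, map_zero])

theorem pX_eq_iff {l : ι} {a : Md X} : D.pX hX h l a = a ↔ a.val ∈ Z l := by
  rw [← Md.val_inj, val_pX, ← Md.val_inc hX a, ← D.val_pi, Md.val_inj, D.pi_eq_iff]

theorem pX_mem (l : ι) (a : Md X) : (D.pX hX h l a).val ∈ Z l :=
  D.pi_mem l (Md.inc hX a)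

open Classical in
/-- the projections, the index `o` takes the complement. -/
noncomputable def pO [Fintype ι] (D : DatD S Q Z x z) {X : Subgroup G} (hX : zc X ≤ zc Q)
    (h : ∀ l, ∀ v ∈ zc X, pr (x l) v ∈ zc X) (o l : ι) : Md X →+ Md X :=
  if l = o then AddMonoidHom.id _ + ∑ m ∈ Finset.univ.erase o, D.pX hX h m else D.pX hX h l

variable [Fintype ι]

theorem pO_ne {o l : ι} (hl : l ≠ o) (a : Md X) : D.pO hX h o l a = D.pX hX h l a := by
  rw [pO, if_neg hl]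

open Classical in
theorem pO_self (o : ι) (a : Md X) :
    D.pO hX h o o a = a + ∑ m ∈ Finset.univ.erase o, D.pX hX h m a := by
  rw [pO, if_pos rfl, AddMonoidHom.add_apply, AddMonoidHom.id_apply, AddMonoidHom.finsetSum_apply]

theorem pX_pO {o l : ι} (hl : l ≠ o) (a : Md X) : D.pX hX h l (D.pO hX h o o a) = 0 := by
  classical
  rw [pO_self, map_add, map_sum, Finset.sum_eq_single l, D.pX_idem, Md.two]
  · intro m _ hm
    exact D.pX_orth hm.symm a
  · intro hn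
    exact absurd (Finset.mem_erase.2 ⟨hl, Finset.mem_univ l⟩) hn

theorem pO_idem (o l : ι) (a : Md X) : D.pO hX h o l (D.pO hX h o l a) = D.pO hX h o l a := by
  classical
  rcases eq_or_ne l o with rfl | hl
  · rw [pO_self (a := D.pO hX h l l a), Finset.sum_eq_zero, add_zero]
    intro m hm
    exact D.pX_pO (Finset.ne_of_mem_erase hm) a
  · rw [D.pO_ne hl, D.pO_ne hl, D.pX_idem]

theorem pO_orth (o l m : ι) (hlm : l ≠ m) (a : Md X) : D.pO hX h o l (D.pO hX h o m a) = 0 := by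
  classical
  rcases eq_or_ne l o with rfl | hl
  · rw [D.pO_ne (Ne.symm hlm), pO_self, Finset.sum_eq_single m, D.pX_idem, Md.two]
    · intro n _ hn
      exact D.pX_orth hn a
    · intro hn
      exact absurd (Finset.mem_erase.2 ⟨hlm.symm, Finset.mem_univ m⟩) hn
  · rw [D.pO_ne hl]
    rcases eq_or_ne m o with rfl | hm
    · exact D.pX_pO hl a
    · rw [D.pO_ne hm, D.pX_orth hlm]

theorem pO_sum (o : ι) (a : Md X) : ∑ l, D.pO hX h o l a = a := by
  classical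
  rw [← Finset.add_sum_erase _ _ (Finset.mem_univ o), pO_self,
    Finset.sum_congr rfl fun m hm => D.pO_ne (Finset.ne_of_mem_erase hm) a, add_assoc, Md.two, add_zero]

end proj

section
variable [Finite G] [Finite ι] (D : DatD S Q Z x z) {o : ι}

open Classical in
/-- `x l` on `Ω₁Z(KQ)`. -/
noncomputable def xh (D : DatD S Q Z x z) (o l : ι) : ↥(NG (KQ S Q (z o))) :=
  if h : l ≠ o then phi (D.x_nor_ZK h) else 1

theorem xh_eq {l : ι} (h : l ≠ o) : D.xh o l = phi (D.x_nor_ZK h) := dif_pos h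

/-- the projections on `Ω₁Z(KQ)`. -/
noncomputable abbrev pK [Fintype ι] (D : DatD S Q Z x z) (o l : ι) : Md (KQ S Q (z o)) →+ Md (KQ S Q (z o)) :=
  D.pO D.ZK_le D.pr_ZK o l

include D in
theorem pr_comm_S0 {s : G} (hs : s ∈ S0 (S : Subgroup G) Z) (l : ι) {v : G} (hv : v ∈ zc Q) :
    s * pr (x l) v * s⁻¹ = pr (x l) (s * v * s⁻¹) := by
  have h2 := D.pr_conj (Dat.S0_le hs) l hv
  rwa [(D.mem_S0_iff (Dat.S0_le hs)).mp hs l] at h2

theorem Ux {u : ↥(NG (KQ S Q (z o)))} (hu : u ∈ img (KQ S Q (z o)) (S0 (S : Subgroup G) Z)) {l : ι}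
    (hl : l ≠ o) : u * D.xh o l * u⁻¹ = D.xh o l ∨ u * D.xh o l * u⁻¹ = (D.xh o l)⁻¹ := by
  obtain ⟨s, hsN, hs, rfl⟩ := mem_img.mp hu
  rw [D.xh_eq hl, phi_mul, phi_inv, phi_mul, phi_inv, phi_eq_iff, phi_eq_iff]
  have h1 := (D.sg_spec (Dat.S0_le hs) l).2
  rw [(D.mem_S0_iff (Dat.S0_le hs)).mp hs l] at h1
  rcases h1 with h1 | h1
  · exact Or.inl fun v hv => h1 v (D.ZK_le hv)
  · exact Or.inr fun v hv => by rw [inv_inv]; exact h1 v (D.ZK_le hv)

theorem mem_CX' {g : G} (hg : g ∈ Wp S Q (z o)) :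
    g ∈ CX S Q x z o ↔ ∀ l, l ≠ o → phi (Wp_nor_ZK hg) * D.xh o l = D.xh o l * phi (Wp_nor_ZK hg) := by
  rw [mem_CX]
  constructor
  · rintro ⟨-, h⟩ l hl
    rw [D.xh_eq hl, phi_mul, phi_mul, phi_eq_iff]
    intro v hv
    calc g * x l * v * (g * x l)⁻¹ = g * (x l * v * (x l)⁻¹) * g⁻¹ := by group
      _ = _ := h l hl v hv
      _ = _ := by group
  · intro h
    refine ⟨hg, fun l hl v hv => ?_⟩
    have h1 := h l hl
    rw [D.xh_eq hl, phi_mul, phi_mul, phi_eq_iff] at h1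
    calc g * (x l * v * (x l)⁻¹) * g⁻¹ = g * x l * v * (g * x l)⁻¹ := by group
      _ = _ := h1 v hv
      _ = _ := by group

include D in
theorem S0_nor_CX : S0 (S : Subgroup G) Z ≤ normalizer (CX S Q x z o : Set G) := by
  intro s hs
  refine mem_norm fun g hg => ?_
  have hgW : g ∈ Wp S Q (z o) := (mem_CX.mp hg).1
  have hgN := Wp_nor_ZK hgW
  have hsN := D.S0_nor_ZK (o := o) hs
  rw [D.mem_CX' hgW] at hg
  rw [D.mem_CX' (D.S0_conj_Wp hs hgW)]
  intro l hl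
  have h1 : phi (Wp_nor_ZK (D.S0_conj_Wp hs hgW)) = phi hsN * phi hgN * (phi hsN)⁻¹ := by
    rw [phi_mul, phi_inv, phi_mul]
  rw [h1]
  have hc : Commute (phi hgN) (D.xh o l) := hg l hl
  have hu : (phi hsN)⁻¹ ∈ img (KQ S Q (z o)) (S0 (S : Subgroup G) Z) := inv_mem (phi_mem_img hsN hs)
  have h2 : Commute (phi hgN) ((phi hsN)⁻¹ * D.xh o l * (phi hsN)⁻¹⁻¹) := by
    rcases D.Ux hu hl with h | h
    · rw [h]; exact hc
    · rw [h]; exact hc.inv_right
  have h3 := (Commute.conj_iff (phi hsN)).mpr h2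
  have h4 : phi hsN * ((phi hsN)⁻¹ * D.xh o l * (phi hsN)⁻¹⁻¹) * (phi hsN)⁻¹ = D.xh o l := by group
  rw [h4] at h3
  exact h3

include D in
/-- **(A3)** `C_{W'}(x l : l ≠ o) ≤ S`. -/
theorem CX_le : CX S Q x z o ≤ (S : Subgroup G) := by
  by_contra hne
  have hA : IsPGroup 2 ↥(S0 (S : Subgroup G) Z ⊔ CX S Q x z o) :=
    (S.2.to_le Dat.S0_le : IsPGroup 2 ↥(S0 (S : Subgroup G) Z)).to_sup_of_normal_right'
      ((WW_two (z o)).to_le (fun g hg => Wp_le (mem_CX.mp hg).1)) D.S0_nor_CX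
  obtain ⟨n, hn, hn1, hn2⟩ := exists_normalizer hA le_sup_left
    (fun h => hne ((le_sup_right.trans h).trans Dat.S0_le))
  have h1 : n ∈ (S0 (S : Subgroup G) Z : Set G) * (CX S Q x z o : Set G) := by
    rw [← coe_mul_of_left_le_normalizer_right _ _ D.S0_nor_CX]
    exact hn
  obtain ⟨s, hs, c, hc, rfl⟩ := h1
  have hcN : c ∈ normalizer (S0 (S : Subgroup G) Z : Set G) := by
    have := mul_mem (inv_mem (le_normalizer hs)) hn2
    simpa using this
  have hcS : c ∉ S0 (S : Subgroup G) Z := fun h => hn1 (mul_mem hs h)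
  apply hcS
  have hcE : c ∈ normalizer (zc (S0 (S : Subgroup G) Z) : Set G) := normalizer_le_normalizer_zc _ hcN
  have hcW : c ∈ Wp S Q (z o) := (mem_CX.mp hc).1
  refine D.inf_le_S0 (mem_inf.2 ⟨Wp_le hcW, D.chain (Wp_le hcW) fun l hl => mem_norm fun v hv => ?_⟩)
  rw [mem_inf] at hv ⊢
  have hvE := conj_mem hcE hv.2
  refine ⟨?_, hvE⟩
  have h1 := (mem_CX.mp hc).2 l hl
  have h2 := h1 v (D.E_le_ZK hv.2)
  have h3 := h1 _ (conj_mem (D.x_nor_ZK hl) (D.E_le_ZK hv.2))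
  have h4 : c * pr (x l) v * c⁻¹ = pr (x l) (c * v * c⁻¹) := by
    unfold pr
    rw [← h2, ← h3]; group
  rw [D.pr_self hv.1] at h4
  rw [h4]
  exact D.prj l _ (D.E_le hvE)

include D in
/-- an element of `zc Q` killed by `π l` is centralised by `x l` -/
theorem x_fix {l : ι} {v : G} (hv : v ∈ zc Q) (h : pr (x l) v = 1) : x l * v * (x l)⁻¹ = v :=
  congrArg Md.val (D.X_ker (a := Md.mk v hv) (Md.ext h))

theorem wdat [Fintype ι] : TwoW.WDat o (D.pK o) (D.xh o) (img (KQ S Q (z o)) (Wp S Q (z o)))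
    (img (KQ S Q (z o)) (S0 (S : Subgroup G) Z)) where
  two := Md.two
  faith _ h := NG_faith h
  idem l a := D.pO_idem o l a
  orth l m h a := D.pO_orth o l m h a
  sum a := D.pO_sum o a
  px := by
    intro l hl a
    rw [D.xh_eq hl, D.pO_ne hl]
    exact Md.ext rfl
  xt := by
    intro l hl m hm a
    rw [D.xh_eq hl]
    apply Md.ext
    rw [val_phi]
    refine D.x_fix (D.ZK_le (Md.val_mem _)) ?_
    have h1 := D.pO_orth (hX := D.ZK_le) (h := D.pr_ZK) o l m hm.symm a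
    rw [D.pO_ne hl] at h1
    exact congrArg Md.val h1
  H2 := img_isPGroup ((WW_two (z o)).to_le Wp_le)
  U2 := img_isPGroup (S.2.to_le Dat.S0_le)
  xH := by
    intro l hl h hh
    obtain ⟨w, hwN, hw, rfl⟩ := mem_img.mp hh
    rw [D.xh_eq hl, phi_mul, phi_inv, phi_mul]
    exact phi_mem_img _ (D.x_conj_Wp hl hw)
  UH := by
    intro u hu h hh
    obtain ⟨w, hwN, hw, rfl⟩ := mem_img.mp hh
    obtain ⟨s, hsN, hs, rfl⟩ := mem_img.mp hu
    rw [phi_mul, phi_inv, phi_mul]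
    exact phi_mem_img _ (D.S0_conj_Wp hs hw)
  Ux := fun u hu l hl => D.Ux hu hl
  Uπ := by
    classical
    intro u hu
    obtain ⟨s, hsN, hs, rfl⟩ := mem_img.mp hu
    have h1 : ∀ (l : ι) (a : Md (KQ S Q (z o))), phi hsN • D.pX (X := KQ S Q (z o)) D.ZK_le D.pr_ZK l a =
        D.pX (X := KQ S Q (z o)) D.ZK_le D.pr_ZK l (phi hsN • a) := by
      intro l a
      apply Md.ext
      rw [val_phi, val_pX, val_pX, val_phi]
      exact D.pr_comm_S0 hs l (D.ZK_le a.val_mem)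
    intro l a
    rcases eq_or_ne l o with rfl | hl
    · rw [D.pO_self, D.pO_self, smul_add, Finset.smul_sum]
      congr 1
      exact Finset.sum_congr rfl fun m _ => h1 m a
    · rw [D.pO_ne hl, D.pO_ne hl]
      exact h1 l a
  CH := by
    intro h hh hc
    obtain ⟨w, hwN, hw, rfl⟩ := mem_img.mp hh
    have h1 : w ∈ CX S Q x z o := (D.mem_CX' hw).mpr hc
    rw [phi_eq_one_iff]
    exact D.K_le_C (mem_inf.mpr ⟨Wp_le hw, D.CX_le h1⟩)

end

end DatD

end Cfsg.Agent.Omega.IId.ThmCD
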